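import Groth.Agent.Lib.DCxRHom.HomProps
import Mathlib.Algebra.Homology.DerivedCategory.KProjective
import Mathlib.Algebra.Homology.DerivedCategory.KInjective

/-! # Derived Hom out of a complex with a K-projective representative -/

set_option autoImplicit false
universe u

open CategoryTheory CategoryTheory.Limits CochainComplex.HomComplex HomologicalComplex
attribute [local instance] HasDerivedCategory.standard

namespace GrothLib.RH

variable {A : Type u} [CommRing A]

lemma homCxPre_apply {K K' : DRing.Cx A} (f : K' ⟶ K) (L : DRing.Cx A) (i : ℤ) (z : Cochain K L i) :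
    (homCxPre f L).f i z = (Cochain.ofHom f).comp z (zero_add i) := rfl

/-- Hom into a K-injective complex inverts quasi-isomorphisms of sources. -/
theorem quasiIso_homCxPre {K K' : DRing.Cx A} (f : K' ⟶ K) [QuasiIso f] (I : DRing.Cx A) [I.IsKInjective] :
    QuasiIso (homCxPre f I) := by
  let q := HomotopyCategory.quotient (ModuleCat.{u} A) (ComplexShape.up ℤ)
  have hf : IsIso (DerivedCategory.Qh.map (q.map f)) :=
    Localization.inverts DerivedCategory.Qh (HomotopyCategory.quasiIso (ModuleCat.{u} A) (ComplexShape.up ℤ)) _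
      (by rw [HomotopyCategory.quotient_map_mem_quasiIso_iff, HomologicalComplex.mem_quasiIso_iff]; infer_instance)
  have h : ∀ n : ℤ, Function.Bijective fun g : q.obj K ⟶ q.obj (I⟦n⟧) => q.map f ≫ g := fun n => by
    have b1 := CochainComplex.IsKInjective.Qh_map_bijective (q.obj K) (I⟦n⟧)
    have b2 := CochainComplex.IsKInjective.Qh_map_bijective (q.obj K') (I⟦n⟧)
    refine (Function.Bijective.of_comp_iff' b2 _).1 ?_
    have he : (DerivedCategory.Qh.map ∘ fun g : q.obj K ⟶ q.obj (I⟦n⟧) => q.map f ≫ g) =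
        (fun t => DerivedCategory.Qh.map (q.map f) ≫ t) ∘ DerivedCategory.Qh.map :=
      funext fun g => Functor.map_comp _ _ _
    rw [he]
    exact (Iso.homFromEquiv (@asIso _ _ _ _ _ hf).symm).bijective.comp b1
  have hnat : ∀ {n : ℤ} (z : Cocycle K I n), CohomologyClass.toHom (CohomologyClass.mk (z.precomp f)) =
      q.map f ≫ CohomologyClass.toHom (CohomologyClass.mk z) := by
    intro n z
    rw [CohomologyClass.toHom_mk, CohomologyClass.toHom_mk, Cocycle.equivHomShift_symm_precomp, Functor.map_comp]
  refine quasiIso_of_elements _ (fun n x hx w hw => ?_) (fun n y hy => ?_)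
  · let z : Cocycle K I n := Cocycle.mk x (n + 1) rfl hx
    have hz : z.precomp f ∈ coboundaries K' I n := (mem_coboundaries_iff _ (n - 1) (by omega)).2 ⟨w, hw⟩
    rw [← CohomologyClass.mk_eq_zero_iff] at hz
    have h0 : CohomologyClass.toHom (CohomologyClass.mk z) = 0 := (h n).1 (by
      change q.map f ≫ CohomologyClass.toHom (CohomologyClass.mk z) = q.map f ≫ 0
      rw [← hnat, hz, map_zero, comp_zero])
    obtain ⟨a, ha⟩ := (mem_coboundaries_iff _ (n - 1) (by omega)).1 ((CohomologyClass.toHom_mk_eq_zero_iff z).1 h0)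
    exact ⟨a, ha⟩
  · let z' : Cocycle K' I n := Cocycle.mk y (n + 1) rfl hy
    obtain ⟨g, hg⟩ := (h n).2 (CohomologyClass.toHom (CohomologyClass.mk z'))
    obtain ⟨c, rfl⟩ := (CohomologyClass.toHom_bijective K I n).2 g
    obtain ⟨z, rfl⟩ := c.mk_surjective
    have hc : CohomologyClass.mk (z.precomp f) = CohomologyClass.mk z' :=
      (CohomologyClass.toHom_bijective K' I n).1 ((hnat z).trans hg)
    rw [← sub_eq_zero, ← CohomologyClass.mk_sub, CohomologyClass.mk_eq_zero_iff] at hc
    obtain ⟨b, hb⟩ := (mem_coboundaries_iff _ (n - 1) (by omega)).1 hc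
    exact ⟨z.1, z.δ_eq_zero (n + 1), b, hb⟩

/-- A morphism out of a K-projective complex in the derived category comes from complexes. -/
theorem exists_quasiIso_of_iso {P E : DRing.Cx A} [P.IsKProjective] (e : DRing.toD P ≅ DRing.toD E) :
    ∃ s : P ⟶ E, QuasiIso s := by
  let c := DerivedCategory.quotientCompQhIso (ModuleCat.{u} A)
  obtain ⟨g, hg⟩ := (CochainComplex.IsKProjective.Qh_map_bijective P
    ((HomotopyCategory.quotient (ModuleCat.{u} A) (ComplexShape.up ℤ)).obj E)).2
    (c.hom.app P ≫ e.hom ≫ c.inv.app E)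
  obtain ⟨s, rfl⟩ := (HomotopyCategory.quotient (ModuleCat.{u} A) (ComplexShape.up ℤ)).map_surjective g
  have h : DerivedCategory.Q.map s = e.hom := by
    have := c.hom.naturality s
    rw [Functor.comp_map, hg] at this
    rw [← cancel_epi (c.hom.app P)]
    exact this.symm.trans (by simp)
  refine ⟨s, (DerivedCategory.isIso_Q_map_iff_quasiIso (C := ModuleCat.{u} A) s).1 ?_⟩
  rw [h]
  infer_instance

/-- The derived Hom is computed on a K-projective representative of the source. -/
theorem rHom_value_of_rep {P E : DRing.Cx A} [P.IsKProjective] (e : DRing.toD P ≅ DRing.toD E)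
    [DRing.HasRHomCx E] (L : DRing.Cx A) :
    Nonempty ((DRing.RHomCx E).obj (DRing.toD L) ≅ DRing.toD (DRing.homCx P L)) := by
  obtain ⟨s, hs⟩ := exists_quasiIso_of_iso e
  obtain ⟨I, i, hi, hI⟩ := exists_resolution L
  haveI := quasiIso_Q i
  haveI := quasiIso_homCxMap_of_isKProjective P i
  haveI := quasiIso_Q (DRing.homCxMap P i)
  haveI := quasiIso_homCxPre s I
  haveI := quasiIso_Q (homCxPre s I)
  exact ⟨(DRing.RHomCx E).mapIso (asIso (DerivedCategory.Q.map i)) ≪≫ (rHom_value E I).some ≪≫
    asIso (DerivedCategory.Q.map (homCxPre s I)) ≪≫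
    (asIso (DerivedCategory.Q.map (DRing.homCxMap P i))).symm⟩

end GrothLib.RH
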