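import Groth.Prelude.Def_DRing4
import Groth.Agent.Lib.Derive.RightCx
import Mathlib.Algebra.Homology.HomotopyCategory.HomComplexCohomology
import Mathlib.Algebra.Homology.HomotopyCategory.KProjective
import Mathlib.Algebra.Homology.HomotopyCategory.KInjective
import Mathlib.Algebra.Homology.ShortComplex.ModuleCat
import Mathlib.Algebra.Category.ModuleCat.Abelian
import Mathlib.Algebra.Category.ModuleCat.AB
import Mathlib.Algebra.Homology.DerivedCategory.KProjective

/-! # The complex of homomorphisms, homotopies and K-projective sources -/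

set_option autoImplicit false
universe u

open CategoryTheory CategoryTheory.Limits CochainComplex CochainComplex.HomComplex
attribute [local instance] HasDerivedCategory.standard

namespace GrothLib.RH

variable {A : Type u} [CommRing A]

lemma homCx_d_apply (K L : DRing.Cx A) (i j : ℤ) (z : Cochain K L i) :
    (DRing.homCx K L).d i j z = δ i j z := rfl

lemma homCxMap_apply (K : DRing.Cx A) {L L' : DRing.Cx A} (f : L ⟶ L') (i : ℤ) (z : Cochain K L i) :
    (DRing.homCxMap K f).f i z = z.comp (Cochain.ofHom f) (add_zero i) := rfl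

/-- A homotopy of second arguments gives a homotopy of complexes of homomorphisms. -/
noncomputable def homCxHomotopy (K : DRing.Cx A) {L L' : DRing.Cx A} {f g : L ⟶ L'} (h : Homotopy f g) :
    Homotopy (DRing.homCxMap K f) (DRing.homCxMap K g) where
  hom i j := if hij : i + (-1) = j then
      ModuleCat.ofHom
        { toFun := fun z : Cochain K L i => z.comp (Cochain.ofHomotopy h) hij
          map_add' := fun z z' => Cochain.add_comp _ _ _ _
          map_smul' := fun a z => Cochain.smul_comp a z _ _ }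
    else 0
  zero i j hij := dif_neg fun h' => hij (by
    change j + 1 = i
    omega)
  comm i := by
    rw [dNext_eq _ (show (ComplexShape.up ℤ).Rel i (i + 1) from rfl),
      prevD_eq _ (show (ComplexShape.up ℤ).Rel (i - 1) i from by simp),
      dif_pos (by omega), dif_pos (by omega)]
    refine ModuleCat.hom_ext (LinearMap.ext fun (z : Cochain K L i) => ?_)
    change z.comp (Cochain.ofHom f) (add_zero i) =
      (δ i (i + 1) z).comp (Cochain.ofHomotopy h) (by omega) +
        δ (i - 1) i (z.comp (Cochain.ofHomotopy h) (by omega)) + z.comp (Cochain.ofHom g) (add_zero i)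
    have hd := δ_comp z (Cochain.ofHomotopy h) (show i + (-1) = i - 1 by omega) (i + 1) 0 i
      (by omega) rfl (by omega)
    rw [δ_ofHomotopy, Cochain.comp_sub] at hd
    rw [hd]
    simp only [Int.negOnePow_neg, Int.negOnePow_one, neg_smul, one_smul, Units.neg_smul]
    abel

/-- The functor to the derived category respects homotopies. -/
theorem homCxQ_homotopy (K : DRing.Cx A) ⦃L L' : DRing.Cx A⦄ (f g : L ⟶ L')
    (h : Nonempty (Homotopy f g)) : (DRing.homCxQ K).map f = (DRing.homCxQ K).map g := by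
  have e := HomotopyCategory.eq_of_homotopy _ _ (homCxHomotopy K h.some)
  change DerivedCategory.Q.map (DRing.homCxMap K f) = DerivedCategory.Q.map (DRing.homCxMap K g)
  rw [← cancel_epi ((DerivedCategory.quotientCompQhIso _).hom.app (DRing.homCx K L))]
  rw [← (DerivedCategory.quotientCompQhIso _).hom.naturality, ← (DerivedCategory.quotientCompQhIso _).hom.naturality,
    Functor.comp_map, Functor.comp_map, e]

/-- The derived functor exists. -/
theorem hasRHomCx (K : DRing.Cx A) : DRing.HasRHomCx K :=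
  GrothLib.Derive.hasRightDerivedFunctor_cx _ (homCxQ_homotopy K)

/-- Its value on K-injective complexes. -/
theorem rHom_value (K : DRing.Cx A) [DRing.HasRHomCx K] (I : DRing.Cx A) [I.IsKInjective] :
    Nonempty ((DRing.RHomCx K).obj (DRing.toD I) ≅ DRing.toD (DRing.homCx K I)) :=
  ⟨(GrothLib.Derive.totalRightDerived_value _ (homCxQ_homotopy K) I).some.symm⟩

/-- Quasi-isomorphisms of complexes of modules, on elements. -/
theorem quasiIso_of_elements {K L : DRing.Cx A} (φ : K ⟶ L)
    (hinj : ∀ (n : ℤ) (x : K.X n), K.d n (n + 1) x = 0 →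
      ∀ w : L.X (n - 1), L.d (n - 1) n w = φ.f n x → ∃ a : K.X (n - 1), K.d (n - 1) n a = x)
    (hsurj : ∀ (n : ℤ) (y : L.X n), L.d n (n + 1) y = 0 →
      ∃ (x : K.X n) (_ : K.d n (n + 1) x = 0) (b : L.X (n - 1)), L.d (n - 1) n b = φ.f n x - y) :
    QuasiIso φ := by
  refine ⟨fun n => ?_⟩
  rw [quasiIsoAt_iff' φ (n - 1) n (n + 1) (by simp) (by simp),
    ShortComplex.LeftHomologyMapData.quasiIso_iff
      (γ := (default : ShortComplex.LeftHomologyMapData
        ((HomologicalComplex.shortComplexFunctor' _ (ComplexShape.up ℤ) (n - 1) n (n + 1)).map φ)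
        (ShortComplex.moduleCatLeftHomologyData _) (ShortComplex.moduleCatLeftHomologyData _))),
    ConcreteCategory.isIso_iff_bijective]
  let γ : ShortComplex.LeftHomologyMapData
        ((HomologicalComplex.shortComplexFunctor' _ (ComplexShape.up ℤ) (n - 1) n (n + 1)).map φ)
        (ShortComplex.moduleCatLeftHomologyData _) (ShortComplex.moduleCatLeftHomologyData _) := default
  have hK : ∀ x, ((γ.φK x).1 : L.X n) = φ.f n x.1 := fun x => ConcreteCategory.congr_hom γ.commi x
  refine ⟨(injective_iff_map_eq_zero _).2 fun c hc => ?_, fun c => ?_⟩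
  · obtain ⟨x, rfl⟩ := Submodule.Quotient.mk_surjective _ c
    have h1 := (ConcreteCategory.congr_hom γ.commπ x).symm.trans hc
    obtain ⟨w, hw⟩ := (Submodule.Quotient.mk_eq_zero _).1 h1
    obtain ⟨a, ha⟩ := hinj n x.1 x.2 w ((congrArg Subtype.val hw).trans (hK x))
    exact (Submodule.Quotient.mk_eq_zero _).2 ⟨a, Subtype.ext ha⟩
  · obtain ⟨y, rfl⟩ := Submodule.Quotient.mk_surjective _ c
    obtain ⟨x, hx, b, hb⟩ := hsurj n y.1 y.2
    refine ⟨Submodule.Quotient.mk ⟨x, hx⟩, ?_⟩
    refine (ConcreteCategory.congr_hom γ.commπ ⟨x, hx⟩).trans ((Submodule.Quotient.eq _).2 ⟨b, Subtype.ext ?_⟩)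
    exact hb.trans (congrArg (· - y.1) (hK ⟨x, hx⟩).symm)

/-- Quasi-isomorphism of Hom complexes from bijectivity in the homotopy category. -/
theorem quasiIso_homCxMap_of_bijective (K : DRing.Cx A) {L L' : DRing.Cx A} (φ : L ⟶ L')
    (h : ∀ n : ℤ, Function.Bijective fun g : (HomotopyCategory.quotient _ (ComplexShape.up ℤ)).obj K ⟶
      (HomotopyCategory.quotient _ (ComplexShape.up ℤ)).obj (L⟦n⟧) =>
        g ≫ (HomotopyCategory.quotient _ (ComplexShape.up ℤ)).map (φ⟦n⟧')) :
    QuasiIso (DRing.homCxMap K φ) := by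
  have hnat : ∀ {n : ℤ} (z : Cocycle K L n), CohomologyClass.toHom (CohomologyClass.mk (z.postcomp φ)) =
      CohomologyClass.toHom (CohomologyClass.mk z) ≫ (HomotopyCategory.quotient _ (ComplexShape.up ℤ)).map (φ⟦n⟧') := by
    intro n z
    rw [CohomologyClass.toHom_mk, CohomologyClass.toHom_mk, Cocycle.equivHomShift_symm_postcomp, Functor.map_comp]
  refine quasiIso_of_elements _ (fun n x hx w hw => ?_) (fun n y hy => ?_)
  · let z : Cocycle K L n := Cocycle.mk x (n + 1) rfl hx
    have hz : z.postcomp φ ∈ coboundaries K L' n := (mem_coboundaries_iff _ (n - 1) (by omega)).2 ⟨w, hw⟩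
    rw [← CohomologyClass.mk_eq_zero_iff] at hz
    have h0 : CohomologyClass.toHom (CohomologyClass.mk z) = 0 := (h n).1 (by
      change CohomologyClass.toHom (CohomologyClass.mk z) ≫ _ = 0 ≫ _
      rw [← hnat, hz, map_zero, zero_comp])
    obtain ⟨a, ha⟩ := (mem_coboundaries_iff _ (n - 1) (by omega)).1 ((CohomologyClass.toHom_mk_eq_zero_iff z).1 h0)
    exact ⟨a, ha⟩
  · let z' : Cocycle K L' n := Cocycle.mk y (n + 1) rfl hy
    obtain ⟨g, hg⟩ := (h n).2 (CohomologyClass.toHom (CohomologyClass.mk z'))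
    obtain ⟨c, rfl⟩ := (CohomologyClass.toHom_bijective K L n).2 g
    obtain ⟨z, rfl⟩ := c.mk_surjective
    have hc : CohomologyClass.mk (z.postcomp φ) = CohomologyClass.mk z' :=
      (CohomologyClass.toHom_bijective K L' n).1 ((hnat z).trans hg)
    rw [← sub_eq_zero, ← CohomologyClass.mk_sub, CohomologyClass.mk_eq_zero_iff] at hc
    obtain ⟨b, hb⟩ := (mem_coboundaries_iff _ (n - 1) (by omega)).1 hc
    exact ⟨z.1, z.δ_eq_zero (n + 1), b, hb⟩

/-- Hom out of a K-projective complex preserves quasi-isomorphisms. -/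
theorem quasiIso_homCxMap_of_isKProjective (K : DRing.Cx A) [K.IsKProjective] {L L' : DRing.Cx A}
    (φ : L ⟶ L') [QuasiIso φ] : QuasiIso (DRing.homCxMap K φ) := by
  refine quasiIso_homCxMap_of_bijective K φ fun n => ?_
  let q := HomotopyCategory.quotient (ModuleCat.{u} A) (ComplexShape.up ℤ)
  haveI : QuasiIso (φ⟦n⟧') := inferInstance
  have hi : IsIso (DerivedCategory.Qh.map (q.map (φ⟦n⟧'))) :=
    Localization.inverts DerivedCategory.Qh (HomotopyCategory.quasiIso (ModuleCat.{u} A) (ComplexShape.up ℤ)) _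
      (by rw [HomotopyCategory.quotient_map_mem_quasiIso_iff, HomologicalComplex.mem_quasiIso_iff]; infer_instance)
  have b1 := CochainComplex.IsKProjective.Qh_map_bijective K (q.obj (L⟦n⟧))
  have b2 := CochainComplex.IsKProjective.Qh_map_bijective K (q.obj (L'⟦n⟧))
  refine (Function.Bijective.of_comp_iff' b2 _).1 ?_
  have he : (DerivedCategory.Qh.map ∘ fun g : q.obj K ⟶ q.obj (L⟦n⟧) => g ≫ q.map (φ⟦n⟧')) =
      (fun t => t ≫ DerivedCategory.Qh.map (q.map (φ⟦n⟧'))) ∘ DerivedCategory.Qh.map :=
    funext fun g => Functor.map_comp _ _ _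
  rw [he]
  exact (Iso.homToEquiv (@asIso _ _ _ _ _ hi)).bijective.comp b1

end GrothLib.RH
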