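import Groth.Agent.Lib.DCxRHom.DualTensor
import Groth.Agent.Lib.DCxKFlat.Bridge

/-! # Homotopies of sources -/

set_option autoImplicit false
universe u

open CategoryTheory CategoryTheory.Limits MonoidalCategory CochainComplex.HomComplex HomologicalComplex
attribute [local instance] HasDerivedCategory.standard

namespace GrothLib.RH

variable {A : Type u} [CommRing A]

/-- A homotopy of sources gives a homotopy of complexes of homomorphisms. -/
noncomputable def homCxPreHomotopy (L : DRing.Cx A) {K K' : DRing.Cx A} {f g : K' ⟶ K} (h : Homotopy f g) :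
    Homotopy (homCxPre f L) (homCxPre g L) where
  hom i j := if hij : (-1) + i = j then
      ModuleCat.ofHom
        { toFun := fun z : Cochain K L i => (i.negOnePow : ℤ) • (Cochain.ofHomotopy h).comp z hij
          map_add' := fun z z' => by rw [Cochain.comp_add, smul_add]
          map_smul' := fun a z => by rw [Cochain.comp_smul, RingHom.id_apply, smul_comm] }
    else 0
  zero i j hij := dif_neg fun h' => hij (by
    change j + 1 = i
    omega)
  comm i := by
    rw [dNext_eq _ (show (ComplexShape.up ℤ).Rel i (i + 1) from rfl),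
      prevD_eq _ (show (ComplexShape.up ℤ).Rel (i - 1) i from by simp),
      dif_pos (by omega), dif_pos (by omega)]
    refine ModuleCat.hom_ext (LinearMap.ext fun (z : Cochain K L i) => ?_)
    change (Cochain.ofHom f).comp z (zero_add i) =
      ((i + 1).negOnePow : ℤ) • (Cochain.ofHomotopy h).comp (δ i (i + 1) z) (by omega) +
        δ (i - 1) i ((i.negOnePow : ℤ) • (Cochain.ofHomotopy h).comp z (by omega)) +
        (Cochain.ofHom g).comp z (zero_add i)
    have hd := δ_comp (Cochain.ofHomotopy h) z (show (-1) + i = i - 1 by omega) 0 (i + 1) i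
      (by omega) (by omega) rfl
    rw [δ_ofHomotopy, Cochain.sub_comp] at hd
    rw [show δ (i - 1) i ((i.negOnePow : ℤ) • (Cochain.ofHomotopy h).comp z (by omega)) =
      (i.negOnePow : ℤ) • δ (i - 1) i ((Cochain.ofHomotopy h).comp z (by omega)) from
        map_zsmul (δ_hom A K' L (i - 1) i) _ _, hd]
    rw [smul_add, Units.smul_def, smul_smul, Int.units_coe_mul_self, one_smul,
      Int.negOnePow_succ, Units.val_neg, neg_smul]
    abel

/-- Homotopy equivalent sources give homotopy equivalent complexes of homomorphisms. -/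
noncomputable def homCxPreEquiv (L : DRing.Cx A) {K K' : DRing.Cx A} (e : HomotopyEquiv K K') :
    HomotopyEquiv (DRing.homCx K' L) (DRing.homCx K L) where
  hom := homCxPre e.hom L
  inv := homCxPre e.inv L
  homotopyHomInvId := (Homotopy.ofEq (homCxPre_comp e.inv e.hom L).symm).trans
    ((homCxPreHomotopy L e.homotopyInvHomId).trans (Homotopy.ofEq (homCxPre_id K' L)))
  homotopyInvHomId := (Homotopy.ofEq (homCxPre_comp e.hom e.inv L).symm).trans
    ((homCxPreHomotopy L e.homotopyHomInvId).trans (Homotopy.ofEq (homCxPre_id K L)))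
where
  homCxPre_comp {K K' K'' : DRing.Cx A} (f : K'' ⟶ K') (g : K' ⟶ K) (L : DRing.Cx A) :
      homCxPre (f ≫ g) L = homCxPre g L ≫ homCxPre f L :=
    HomologicalComplex.hom_ext _ _ fun i => ModuleCat.hom_ext (LinearMap.ext fun (z : Cochain K L i) => by
      change (Cochain.ofHom (f ≫ g)).comp z (zero_add i) =
        (Cochain.ofHom f).comp ((Cochain.ofHom g).comp z (zero_add i)) (zero_add i)
      rw [Cochain.ofHom_comp, Cochain.comp_assoc_of_first_is_zero_cochain])
  homCxPre_id (K L : DRing.Cx A) : homCxPre (𝟙 K) L = 𝟙 _ :=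
    HomologicalComplex.hom_ext _ _ fun i => ModuleCat.hom_ext (LinearMap.ext fun (z : Cochain K L i) =>
      Cochain.id_comp z)

/-- The tensor product of K-flat complexes is K-flat. -/
theorem isKFlat_tens {D K : DRing.Cx A} (hD : GrothLib.KF.IsKFlat D) (hK : GrothLib.KF.IsKFlat K) :
    GrothLib.KF.IsKFlat (tens D K) := fun L hL i => by
  refine IsZero.of_iso ?_ ((HomologicalComplex.homologyFunctor _ _ i).mapIso
    (α_ L D K).symm : (L ⊗ (D ⊗ K)).homology i ≅ ((L ⊗ D) ⊗ K).homology i)
  exact hK (L ⊗ D) (fun j => hD L hL j) i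

end GrothLib.RH
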