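import Groth.Agent.Lib.DCxRHom.HomProps
import Mathlib.RingTheory.Localization.Away.Basic
import Mathlib.RingTheory.Flat.Localization
import Mathlib.RingTheory.TensorProduct.Maps

/-! # Tensor products of localizations -/

set_option autoImplicit false
universe u

open CategoryTheory MonoidalCategory
open scoped TensorProduct
attribute [local instance] HasDerivedCategory.standard

namespace GrothLib.RH

variable {A : Type u} [CommRing A] (f g : A)

/-- The tensor product of two principal localizations. -/
theorem exists_awayTensorEquiv :
    Nonempty (Localization.Away f ⊗[A] Localization.Away g ≃ₐ[A] Localization.Away (f * g)) := by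
  let T := Localization.Away f ⊗[A] Localization.Away g
  have hfg : IsUnit (algebraMap A T (f * g)) := by
    rw [map_mul]
    refine IsUnit.mul ?_ ?_
    · rw [← (Algebra.TensorProduct.includeLeft : Localization.Away f →ₐ[A] T).commutes f]
      exact (IsLocalization.Away.algebraMap_isUnit f).map _
    · rw [← (Algebra.TensorProduct.includeRight : Localization.Away g →ₐ[A] T).commutes g]
      exact (IsLocalization.Away.algebraMap_isUnit g).map _
  have hf : IsUnit (algebraMap A (Localization.Away (f * g)) f) :=
    IsLocalization.Away.isUnit_of_dvd (f * g) (dvd_mul_right f g)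
  have hg : IsUnit (algebraMap A (Localization.Away (f * g)) g) :=
    IsLocalization.Away.isUnit_of_dvd (f * g) (dvd_mul_left g f)
  let a := Algebra.TensorProduct.lift
    (IsLocalization.Away.liftAlgHom (S := Localization.Away f) (A := A) (f := Algebra.ofId A (Localization.Away (f * g))) f hf)
    (IsLocalization.Away.liftAlgHom (S := Localization.Away g) (A := A) (f := Algebra.ofId A (Localization.Away (f * g))) g hg)
    (fun _ _ => Commute.all _ _)
  let b := IsLocalization.Away.liftAlgHom (S := Localization.Away (f * g)) (A := A) (f := Algebra.ofId A T) (f * g) hfg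
  refine ⟨AlgEquiv.ofAlgHom a b (IsLocalization.algHom_ext (Submonoid.powers (f * g)) (Subsingleton.elim _ _))
    (Algebra.TensorProduct.ext (IsLocalization.algHom_ext (Submonoid.powers f) (Subsingleton.elim _ _))
      (IsLocalization.algHom_ext (Submonoid.powers g) (Subsingleton.elim _ _)))⟩

lemma flat_away : GrothLib.KF.IsFlat (ModuleCat.of A (Localization.Away g)) :=
  IsLocalization.flat (Localization.Away g) (Submonoid.powers g)

/-- The complex version. -/
theorem exists_awayTensorIso :
    Nonempty ((HomologicalComplex.single (ModuleCat.{u} A) (ComplexShape.up ℤ) 0).obj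
        (ModuleCat.of A (Localization.Away (f * g))) ≅
      tens ((HomologicalComplex.single (ModuleCat.{u} A) (ComplexShape.up ℤ) 0).obj
          (ModuleCat.of A (Localization.Away f)))
        ((HomologicalComplex.single (ModuleCat.{u} A) (ComplexShape.up ℤ) 0).obj
          (ModuleCat.of A (Localization.Away g)))) :=
  ⟨(HomologicalComplex.single (ModuleCat.{u} A) (ComplexShape.up ℤ) 0).mapIso
      (LinearEquiv.toModuleIso (exists_awayTensorEquiv f g).some.toLinearEquiv.symm) ≪≫
    (tensSingleIso (ModuleCat.of A (Localization.Away f)) (ModuleCat.of A (Localization.Away g))).symm⟩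

end GrothLib.RH
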