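import Groth.Agent.Lib.DCxRHom.Completion
import Groth.Agent.Lib.DCxRHom.HomHtpy
import Groth.Agent.Lib.DCxRHom.Localization
import Groth.Agent.Lib.ExtCech.Basic
import Mathlib.Algebra.Homology.DerivedCategory.ShortExact
import Mathlib.Algebra.Homology.HomotopyCategory.HomComplexSingle
import Mathlib.RingTheory.Flat.Localization
import Mathlib.RingTheory.Localization.BaseChange

/-! # Derived Hom out of the extended Čech complex is derived completion -/

set_option autoImplicit false
universe u

open CategoryTheory CategoryTheory.Limits CochainComplex CochainComplex.HomComplex HomologicalComplex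
open scoped TensorProduct
attribute [local instance] HasDerivedCategory.standard

namespace GrothLib.RH

variable {A : Type u} [CommRing A]

lemma flat_localizedModule (S : Submonoid A) (M : Type u) [AddCommGroup M] [Module A M] [Module.Flat A M] :
    Module.Flat A (LocalizedModule S M) := by
  haveI : Module.Flat A (Localization S) := IsLocalization.flat (Localization S) S
  exact Module.Flat.of_linearEquiv ((LocalizedModule.equivTensorProduct S M).restrictScalars A)

lemma flat_X_extCech : ∀ (fs : List A) (p : ℤ), Module.Flat A ((DerCA.extCech (ModuleCat.of A A) fs).X p) := by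
  intro fs
  induction fs with
  | nil =>
    intro p
    exact GrothLib.KF.flatTerms_single (ModuleCat.of A A) (inferInstanceAs (Module.Flat A A)) 0 p
  | cons f fs ih =>
    intro p
    let M := DerCA.extCech (ModuleCat.of A A) fs
    haveI := ih p
    haveI := ih (p - 1)
    haveI : Module.Flat A (((DerCA.locCx (Submonoid.powers f)).obj M).X (p - 1)) :=
      flat_localizedModule (Submonoid.powers f) (M.X (p - 1))
    exact GrothLib.KF.isFlat_of_iso (DerCA.mappingCoconeXIso (DerCA.locCxUnit (Submonoid.powers f) M) p).symm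
      (GrothLib.KF.isFlat_middle_of_shortExact _ (ShortComplex.Splitting.ofHasBinaryBiproduct (M.X p)
        (((DerCA.locCx (Submonoid.powers f)).obj M).X (p - 1))).shortExact (ih p)
          (flat_localizedModule (Submonoid.powers f) (M.X (p - 1))))

/-- The extended Čech complex of the ring is K-flat. -/
theorem isKFlat_extCech (fs : List A) : GrothLib.KF.IsKFlat (DerCA.extCech (ModuleCat.of A A) fs) :=
  GrothLib.KF.isKFlat_of_bounded_above _ fs.length (fun p hp => ExtCech.isZero_X _ fs p (Or.inr hp))
    (flat_X_extCech fs)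

/-- Localising at a listed element kills the extended Čech complex. -/
theorem acyclic_single_away_tens_extCech {g : A} {fs : List A} (hg : g ∈ fs) :
    (tens ((HomologicalComplex.single (ModuleCat.{u} A) (ComplexShape.up ℤ) 0).obj
      (ModuleCat.of A (Localization.Away g))) (DerCA.extCech (ModuleCat.of A A) fs)).Acyclic := by
  let M := DerCA.extCech (ModuleCat.of A A) fs
  let F := ModuleCat.of A (Localization.Away g)
  let T := (MonoidalCategory.curriedTensor (ModuleCat.{u} A)).flip.obj F
  refine DerCat.acyclic_of_iso (GrothLib.KF.singleIso M F ≪≫ GrothLib.KF.tensorCxSymm _ _) fun i => ?_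
  haveI : T.PreservesHomology :=
    haveI : T.Additive := inferInstance
    (T.exact_tfae.out 2 0).2 fun S hS => GrothLib.KF.tensor_map_shortExact (flat_away g) hS
  haveI : Subsingleton (T.obj (M.homology i)) := by
    suffices h : ∀ t : M.homology i ⊗[A] Localization.Away g, t = 0 from
      (⟨fun a b => (h a).trans (h b).symm⟩ : Subsingleton (M.homology i ⊗[A] Localization.Away g))
    intro t
    induction t using TensorProduct.induction_on with
    | zero => rfl
    | tmul x a =>
      obtain ⟨n, hn⟩ := ExtCech.exists_pow_smul_eq_zero fs (ModuleCat.of A A) i x g hg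
      obtain ⟨v, hv⟩ := (IsLocalization.Away.algebraMap_isUnit (S := Localization.Away g) g).pow n
      have ha : a = (g ^ n : A) • ((↑v⁻¹ : Localization.Away g) * a) := by
        rw [Algebra.smul_def, map_pow, ← hv, Units.mul_inv_cancel_left]
      rw [ha, ← TensorProduct.smul_tmul, hn, TensorProduct.zero_tmul]
    | add a b ha hb => rw [ha, hb, add_zero]
  rw [exactAt_iff_isZero_homology]
  exact IsZero.of_iso (ModuleCat.isZero_of_subsingleton (T.obj (M.homology i))) ((M.sc i).mapHomologyIso T)

/-- Hom of complexes out of the extended Čech complex is derived complete. -/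
theorem dcObj_homCx_extCech {g : A} {fs : List A} (hg : g ∈ fs) (C : DRing.Cx A) [C.IsKInjective] :
    DCpl.DCObj g (DRing.toD (DRing.homCx (DerCA.extCech (ModuleCat.of A A) fs) C)) := by
  let M := DerCA.extCech (ModuleCat.of A A) fs
  let S := (HomologicalComplex.single (ModuleCat.{u} A) (ComplexShape.up ℤ) 0).obj
    (ModuleCat.of A (Localization.Away g))
  let H := DRing.homCx M C
  haveI : H.IsKInjective := isKInjective_homCx M C (isKFlat_extCech fs)
  refine (DCpl.subsingleton_hom_away_iff g (DRing.toD H)).1 fun n => ?_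
  let eS : Dual.inD A (Localization.Away g) ≅ DRing.toD S := ((SingleFunctors.evaluation _ _ 0).mapIso
    (DerivedCategory.singleFunctorsPostcompQIso (ModuleCat.{u} A))).app (ModuleCat.of A (Localization.Away g))
  let eH := ((DerivedCategory.Q (C := ModuleCat.{u} A)).commShiftIso n).app H
  suffices h : ∀ ξ : DRing.toD S ⟶ DRing.toD (H⟦n⟧), ξ = 0 by
    refine ⟨fun a b => ?_⟩
    have : ∀ a : Dual.inD A (Localization.Away g) ⟶ (DRing.toD H)⟦n⟧, a = 0 := fun a =>
      (cancel_mono eH.inv).1 ((cancel_epi eS.inv).1 ((h (eS.inv ≫ a ≫ eH.inv)).trans (by simp)))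
    rw [this a, this b]
  intro ξ
  obtain ⟨χ, rfl⟩ := DR.exists_lift_inj ξ
  obtain ⟨z, rfl⟩ := Cocycle.equivHomShift.symm.surjective χ
  let w : Cocycle (tens S M) C n := Cocycle.mk (assocEquiv S M C n z.1) (n + 1) rfl (by
    rw [assocEquiv_δ' S M C n (n + 1) rfl, z.δ_eq_zero, map_zero])
  obtain ⟨b, hb⟩ := CochainComplex.IsKInjective.eq_δ_of_cocycle w (acyclic_single_away_tens_extCech hg) (n - 1)
    (by omega)
  obtain ⟨b', rfl⟩ := (assocEquiv S M C (n - 1)).surjective b
  rw [assocEquiv_δ' S M C (n - 1) n (by omega)] at hb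
  have hz : z ∈ coboundaries S H n :=
    (mem_coboundaries_iff _ (n - 1) (by omega)).2 ⟨b', (assocEquiv S M C n).injective hb⟩
  have h0 := (CohomologyClass.toHom_mk_eq_zero_iff z).2 hz
  rw [CohomologyClass.toHom_mk] at h0
  rw [← cancel_epi ((DerivedCategory.quotientCompQhIso (ModuleCat.{u} A)).hom.app S),
    ← (DerivedCategory.quotientCompQhIso (ModuleCat.{u} A)).hom.naturality, Functor.comp_map, h0,
    Functor.map_zero, zero_comp, comp_zero]

section Step

variable {K L : DRing.Cx A} (φ : K ⟶ L)

/-- The inclusion into the cocone. -/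
noncomputable def coconeInr : L⟦(-1 : ℤ)⟧ ⟶ mappingCocone φ := (mappingCone.inr φ)⟦(-1 : ℤ)⟧'

lemma coconeInr_f (p : ℤ) : (coconeInr φ).f p = (mappingCocone.inr φ).1.v (p + -1) p (by omega) := by
  change (mappingCone.inr φ).f (p + -1) =
    ((Cochain.ofHom (mappingCone.inr φ)).rightShift (-1) 1 (by omega)).v (p + -1) p (by omega)
  rw [Cochain.rightShift_v (n := 0) _ (-1) 1 (by omega) (p + -1) p (by omega) (p + -1) (add_zero _), Cochain.ofHom_v]
  simp [mappingCocone]
  rfl

/-- The sequence of the cocone, after Hom. -/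
noncomputable def homCoconeSC (C : DRing.Cx A) : ShortComplex (DRing.Cx A) :=
  ShortComplex.mk (homCxPre (mappingCocone.fst φ) C) (homCxPre (coconeInr φ) C) (by
    refine HomologicalComplex.hom_ext _ _ fun i => ModuleCat.hom_ext (LinearMap.ext fun (z : Cochain K C i) => ?_)
    change (Cochain.ofHom (coconeInr φ)).comp ((Cochain.ofHom (mappingCocone.fst φ)).comp z (zero_add i)) (zero_add i) = 0
    rw [← Cochain.comp_assoc_of_first_is_zero_cochain, ← Cochain.ofHom_comp,
      show coconeInr φ ≫ mappingCocone.fst φ = 0 from HomologicalComplex.hom_ext _ _ fun p => by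
        rw [HomologicalComplex.comp_f, coconeInr_f]
        exact mappingCocone.inr_v_fst_f φ _ _ _, Cochain.ofHom_zero, Cochain.zero_comp])

lemma homCoconeSC_shortExact (C : DRing.Cx A) : (homCoconeSC φ C).ShortExact := by
  refine HomologicalComplex.shortExact_of_degreewise_shortExact _ fun i => ?_
  let S := (homCoconeSC φ C).map (HomologicalComplex.eval (ModuleCat.{u} A) (ComplexShape.up ℤ) i)
  have hmono : Mono S.f := by
    refine (ModuleCat.mono_iff_injective _).2 ((injective_iff_map_eq_zero _).2 fun (z : Cochain K C i) hz => ?_)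
    refine Cochain.ext _ _ fun p q hpq => ?_
    have h := Cochain.congr_v (show (Cochain.ofHom (mappingCocone.fst φ)).comp z (zero_add i) = 0 from hz) p q hpq
    rw [Cochain.zero_cochain_comp_v, Cochain.ofHom_v, Cochain.zero_v] at h
    calc z.v p q hpq = ((mappingCocone.inl φ).v p p (add_zero p) ≫ (mappingCocone.fst φ).f p) ≫ z.v p q hpq := by
          rw [mappingCocone.inl_v_fst_f, Category.id_comp]
      _ = 0 := by rw [Category.assoc, h, comp_zero]
  have hepi : Epi S.g := by
    refine (ModuleCat.epi_iff_surjective _).2 fun (w : Cochain (L⟦(-1 : ℤ)⟧) C i) => ?_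
    refine ⟨(Cochain.mk fun p q h => (mappingCocone.snd φ).v p (p + -1) rfl ≫ w.v p q h :
      Cochain (mappingCocone φ) C i), ?_⟩
    refine Cochain.ext _ _ fun p q hpq => ?_
    change ((Cochain.ofHom (coconeInr φ)).comp _ (zero_add i)).v p q hpq = _
    rw [Cochain.zero_cochain_comp_v, Cochain.ofHom_v, coconeInr_f, Cochain.mk_v]
    rw [← Category.assoc]
    exact (congrArg (· ≫ w.v p q hpq) (mappingCocone.inr_v_snd_v φ (p + -1) p (by omega))).trans (Category.id_comp _)
  refine { exact := ?_, mono_f := hmono, epi_g := hepi }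
  refine (ShortComplex.moduleCat_exact_iff _).2 fun (z : Cochain (mappingCocone φ) C i) hz =>
    ⟨((mappingCocone.inl φ).comp z (zero_add i) : Cochain K C i), ?_⟩
  refine Cochain.ext _ _ fun p q hpq => ?_
  have h := Cochain.congr_v (show (Cochain.ofHom (coconeInr φ)).comp z (zero_add i) = 0 from hz) p q hpq
  rw [Cochain.zero_cochain_comp_v, Cochain.ofHom_v, Cochain.zero_v, coconeInr_f] at h
  change ((Cochain.ofHom (mappingCocone.fst φ)).comp ((mappingCocone.inl φ).comp z (zero_add i)) (zero_add i)).v
    p q hpq = _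
  rw [Cochain.zero_cochain_comp_v, Cochain.zero_cochain_comp_v, Cochain.ofHom_v]
  refine Eq.trans ?_ ((congrArg (· ≫ z.v p q hpq) (mappingCocone.id_X φ p (p + -1) rfl)).trans (Category.id_comp _))
  rw [Preadditive.add_comp, Category.assoc, Category.assoc]
  exact ((congrArg (_ + ·) ((congrArg (_ ≫ ·) h).trans comp_zero)).trans (add_zero _)).symm

/-- A scalar which is invertible on the target is invertible on Hom out of it. -/
lemma isIso_smul_homCx_shift (C : DRing.Cx A) (g : A) (h : ∀ p, IsIso (g • 𝟙 (L.X p))) :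
    IsIso (g • 𝟙 (DRing.toD (DRing.homCx (L⟦(-1 : ℤ)⟧) C))) := by
  haveI : ∀ p, IsIso ((g • 𝟙 (L⟦(-1 : ℤ)⟧)).f p) := fun p => h (p + -1)
  haveI : IsIso (g • 𝟙 (L⟦(-1 : ℤ)⟧)) := HomologicalComplex.Hom.isIso_of_components _
  let e := DerivedCategory.Q.mapIso (homCxPreIso (asIso (g • 𝟙 (L⟦(-1 : ℤ)⟧))) C)
  have he : e.hom = g • 𝟙 (DRing.toD (DRing.homCx (L⟦(-1 : ℤ)⟧) C)) := by
    rw [show g • 𝟙 (DRing.toD (DRing.homCx (L⟦(-1 : ℤ)⟧) C)) =
      DerivedCategory.Q.map (g • 𝟙 (DRing.homCx (L⟦(-1 : ℤ)⟧) C)) by rw [Functor.map_smul, CategoryTheory.Functor.map_id]]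
    refine congrArg (fun m => DerivedCategory.Q.map m) (HomologicalComplex.hom_ext _ _ fun i =>
      ModuleCat.hom_ext (LinearMap.ext fun (z : Cochain (L⟦(-1 : ℤ)⟧) C i) => Cochain.ext _ _ fun p q hpq => ?_))
    change ((Cochain.ofHom (g • 𝟙 (L⟦(-1 : ℤ)⟧))).comp z (zero_add i)).v p q hpq = g • z.v p q hpq
    rw [Cochain.zero_cochain_comp_v, Cochain.ofHom_v, HomologicalComplex.smul_f_apply, HomologicalComplex.id_f,
      Linear.smul_comp, Category.id_comp]
  rw [← he]
  infer_instance

/-- Restriction to the cocone is a reflection when the scalar is invertible on the target. -/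
theorem bijective_cocone (C : DRing.Cx A) (g : A) (h : ∀ p, IsIso (g • 𝟙 (L.X p))) {E : Dual.D A}
    (hE : DCpl.DCObj g E) :
    Function.Bijective fun ψ : DRing.toD (DRing.homCx (mappingCocone φ) C) ⟶ E =>
      DerivedCategory.Q.map (homCxPre (mappingCocone.fst φ) C) ≫ ψ := by
  have hinst : IsIso (g • 𝟙 (DRing.toD (homCoconeSC φ C).X₃)) := isIso_smul_homCx_shift C g h
  let e := (CategoryTheory.shiftFunctorZero (Dual.D A) ℤ).app E
  have h := (DCpl.subsingleton_iff_precomp_bijective _
    (DerivedCategory.triangleOfSES_distinguished (homCoconeSC_shortExact φ C)) E).1 (fun n =>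
      ⟨fun a b => (@(DCpl.dcObj_iff_orth g _).1 (DCpl.dcObj_shift hE n) _ hinst a).trans
        (@(DCpl.dcObj_iff_orth g _).1 (DCpl.dcObj_shift hE n) _ hinst b).symm⟩) 0
  refine ⟨fun a b hab => (cancel_mono e.inv).1 (h.1 ?_), fun b => ?_⟩
  · change DerivedCategory.Q.map (homCxPre (mappingCocone.fst φ) C) ≫ a ≫ e.inv =
      DerivedCategory.Q.map (homCxPre (mappingCocone.fst φ) C) ≫ b ≫ e.inv
    rw [← Category.assoc, ← Category.assoc]
    exact congrArg (· ≫ e.inv) hab
  · obtain ⟨a, ha⟩ := h.2 (b ≫ e.inv)
    refine ⟨a ≫ e.hom, ?_⟩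
    change DerivedCategory.Q.map (homCxPre (mappingCocone.fst φ) C) ≫ a ≫ e.hom = b
    rw [← Category.assoc, show DerivedCategory.Q.map (homCxPre (mappingCocone.fst φ) C) ≫ a = b ≫ e.inv from ha]
    simp

end Step

/-- Hom out of the unit complex. -/
noncomputable def homCxOneIso (C : DRing.Cx A) :
    DRing.homCx ((HomologicalComplex.single (ModuleCat.{u} A) (ComplexShape.up ℤ) 0).obj (ModuleCat.of A A)) C ≅ C :=
  HomologicalComplex.Hom.isoOfComponents
    (fun n => LinearEquiv.toModuleIso
      ((({ (Cochain.fromSingleEquiv (K := C) (X := ModuleCat.of A A) (zero_add n)).toEquiv.trans ModuleCat.homEquiv with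
        map_add' := fun φ φ' => congrArg ModuleCat.Hom.hom
          ((Cochain.fromSingleEquiv (K := C) (X := ModuleCat.of A A) (zero_add n)).map_add φ φ')
        map_smul' := fun a φ => rfl } :
          Cochain ((HomologicalComplex.single (ModuleCat.{u} A) (ComplexShape.up ℤ) 0).obj (ModuleCat.of A A)) C n
            ≃ₗ[A] (A →ₗ[A] C.X n))).trans (LinearMap.ringLmapEquivSelf A A (C.X n))))
    (fun n m hnm => by
      obtain rfl : n + 1 = m := hnm
      refine ModuleCat.hom_ext (LinearMap.ext fun (φ : Cochain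
        ((HomologicalComplex.single (ModuleCat.{u} A) (ComplexShape.up ℤ) 0).obj (ModuleCat.of A A)) C n) => ?_)
      let i := (singleObjXSelf (ComplexShape.up ℤ) 0 (ModuleCat.of A A)).inv (1 : A)
      change C.d n (n + 1) (φ.v 0 n (zero_add n) i) = (δ n (n + 1) φ).v 0 (n + 1) (zero_add _) i
      rw [δ_app φ 0 (n + 1) n 1 (zero_add _) (by omega) rfl i, HomologicalComplex.single_obj_d]
      exact ((congrArg (C.d n (n + 1) (φ.v 0 n (zero_add n) i) + ·)
        ((congrArg (((n + 1).negOnePow : ℤ) • ·) (map_zero _)).trans (smul_zero _))).trans (add_zero _)).symm)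

/-- Hom out of the extended Čech complex is derived completion. -/
theorem exists_cech_reflection (fs : List A) (C : DRing.Cx A) :
    ∃ η : DRing.toD C ⟶ DRing.toD (DRing.homCx (DerCA.extCech (ModuleCat.of A A) fs) C),
      ∀ E : Dual.D A, (∀ g ∈ fs, DCpl.DCObj g E) → Function.Bijective (fun ψ => η ≫ (ψ : _ ⟶ E)) := by
  induction fs with
  | nil =>
    exact ⟨(DerivedCategory.Q.mapIso (homCxOneIso C)).inv, fun E _ =>
      (Iso.homFromEquiv (DerivedCategory.Q.mapIso (homCxOneIso C))).bijective⟩
  | cons f fs ih =>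
    obtain ⟨η, hη⟩ := ih
    let φ := DerCA.locCxUnit (Submonoid.powers f) (DerCA.extCech (ModuleCat.of A A) fs)
    refine ⟨η ≫ DerivedCategory.Q.map (homCxPre (mappingCocone.fst φ) C), fun E hE => ?_⟩
    have h2 := bijective_cocone φ C f (fun p => ?_) (hE f List.mem_cons_self)
    · have := (hη E fun g hg => hE g (List.mem_cons_of_mem f hg)).comp h2
      simp only [Category.assoc]
      exact this
    · rw [ConcreteCategory.isIso_iff_bijective]
      exact (Module.End.isUnit_iff _).1 (IsLocalizedModule.map_units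
        (LocalizedModule.mkLinearMap (Submonoid.powers f) ((DerCA.extCech (ModuleCat.of A A) fs).X p))
        ⟨f, Submonoid.mem_powers f⟩)

end GrothLib.RH
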