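import Groth.Agent.Lib.DCxRHom.Rep
import Groth.Agent.Lib.DCxRing.DComplete.Completion
import Groth.Agent.Lib.DCxRing.InjAmp
import Groth.Agent.Lib.DCxKFlat.Resolution
import Mathlib.Algebra.Homology.HomotopyCategory.MappingCone
import Mathlib.Algebra.Homology.HomotopyCategory.Triangulated

/-! # Derived Hom and derived completion -/

set_option autoImplicit false
universe u

open CategoryTheory CategoryTheory.Limits CochainComplex CochainComplex.HomComplex HomologicalComplex
attribute [local instance] HasDerivedCategory.standard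

namespace GrothLib.RH

variable {A : Type u} [CommRing A]

/-- The mapping cone of K-injective complexes is K-injective. -/
theorem isKInjective_mappingCone {C D : DRing.Cx A} (φ : C ⟶ D) [C.IsKInjective] [D.IsKInjective] :
    (mappingCone φ).IsKInjective :=
  (isKInjective_iff_rightOrthogonal _).2
    (((HomotopyCategory.subcategoryAcyclic (ModuleCat.{u} A)).rightOrthogonal).ext_of_isTriangulatedClosed₃
      (mappingCone.triangleh φ) (HomotopyCategory.mappingCone_triangleh_distinguished φ)
      (IsKInjective.rightOrthogonal C) (IsKInjective.rightOrthogonal D))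

/-- Sequences in a K-injective complex form a K-injective complex. -/
theorem isKInjective_seqCx (C : DRing.Cx A) [C.IsKInjective] : (DCpl.seqCx C).IsKInjective :=
  ⟨fun φ hK => DCpl.nonempty_homotopy_seq φ 0 fun n => by
    rw [zero_comp]
    exact CochainComplex.IsKInjective.nonempty_homotopy_zero (φ ≫ DCpl.seqProj C n) hK⟩

variable (K : DRing.Cx A)

lemma homCxMap_smul {L L' : DRing.Cx A} (c : A) (f : L ⟶ L') :
    DRing.homCxMap K (c • f) = c • DRing.homCxMap K f := by
  refine HomologicalComplex.hom_ext _ _ fun i => ModuleCat.hom_ext (LinearMap.ext fun (z : Cochain K L i) => ?_)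
  change z.comp (Cochain.ofHom (c • f)) (add_zero i) = c • z.comp (Cochain.ofHom f) (add_zero i)
  rw [← Cochain.comp_smul]
  refine congrArg (fun w => z.comp w (add_zero i)) (Cochain.ext₀ _ _ fun p => ?_)
  simp

/-- Composition with the inclusion of a source into the cone. -/
noncomputable def coneAlpha {F G : DRing.Cx A} (φ : F ⟶ G) :
    Cochain (DRing.homCx K F) (DRing.homCx K (mappingCone φ)) (-1) :=
  Cochain.mk fun p q (hpq : p + -1 = q) => ModuleCat.ofHom
      { toFun := fun z : Cochain K F p => z.comp (mappingCone.inl φ) hpq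
        map_add' := fun z z' => Cochain.add_comp _ _ _ _
        map_smul' := fun a z => Cochain.smul_comp a z _ _ }

lemma δ_coneAlpha {F G : DRing.Cx A} (φ : F ⟶ G) :
    δ (-1) 0 (coneAlpha K φ) = Cochain.ofHom (DRing.homCxMap K φ ≫ DRing.homCxMap K (mappingCone.inr φ)) := by
  refine Cochain.ext₀ _ _ fun q => ?_
  rw [δ_v (-1) 0 rfl _ q q (add_zero q) (q - 1) (q + 1) rfl rfl, Cochain.ofHom_v]
  refine ModuleCat.hom_ext (LinearMap.ext fun (z : Cochain K F q) => ?_)
  change δ (q - 1) q (z.comp (mappingCone.inl φ) (by omega)) +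
      ((0 : ℤ).negOnePow : ℤ) • (δ q (q + 1) z).comp (mappingCone.inl φ) (by omega) =
    (z.comp (Cochain.ofHom φ) (add_zero q)).comp (Cochain.ofHom (mappingCone.inr φ)) (add_zero q)
  rw [δ_comp z (mappingCone.inl φ) (show q + -1 = q - 1 by omega) (q + 1) 0 q (by omega) rfl (by omega),
    mappingCone.δ_inl, Cochain.ofHom_comp, Cochain.comp_assoc_of_second_is_zero_cochain]
  simp

/-- The comparison between the cone of postcomposition and Hom into the cone. -/
noncomputable def coneMap {F G : DRing.Cx A} (φ : F ⟶ G) :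
    mappingCone (DRing.homCxMap K φ) ⟶ DRing.homCx K (mappingCone φ) :=
  mappingCone.desc _ (coneAlpha K φ) (DRing.homCxMap K (mappingCone.inr φ)) (δ_coneAlpha K φ)

lemma coneMap_inl_v {F G : DRing.Cx A} (φ : F ⟶ G) (p q : ℤ) (hpq : p + -1 = q) :
    (mappingCone.inl (DRing.homCxMap K φ)).v p q hpq ≫ (coneMap K φ).f q = (coneAlpha K φ).v p q hpq := by
  rw [coneMap]
  simp

lemma coneMap_inr_f {F G : DRing.Cx A} (φ : F ⟶ G) (p : ℤ) :
    (mappingCone.inr (DRing.homCxMap K φ)).f p ≫ (coneMap K φ).f p =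
      (DRing.homCxMap K (mappingCone.inr φ)).f p := by
  rw [coneMap]
  simp

lemma coneMap_inl {F G : DRing.Cx A} (φ : F ⟶ G) (p q : ℤ) (hpq : p + -1 = q) (z : Cochain K F p) :
    (coneMap K φ).f q ((mappingCone.inl (DRing.homCxMap K φ)).v p q hpq z) = z.comp (mappingCone.inl φ) hpq := by
  have h : ∀ w : (DRing.homCx K F).X p, (coneMap K φ).f q ((mappingCone.inl (DRing.homCxMap K φ)).v p q hpq w) =
      (coneAlpha K φ).v p q hpq w := fun w => by
    rw [← ConcreteCategory.comp_apply, coneMap_inl_v]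
  exact h z

lemma coneMap_inr {F G : DRing.Cx A} (φ : F ⟶ G) (p : ℤ) (z : Cochain K G p) :
    (coneMap K φ).f p ((mappingCone.inr (DRing.homCxMap K φ)).f p z) =
      z.comp (Cochain.ofHom (mappingCone.inr φ)) (add_zero p) := by
  have h : ∀ w : (DRing.homCx K G).X p, (coneMap K φ).f p ((mappingCone.inr (DRing.homCxMap K φ)).f p w) =
      (DRing.homCxMap K (mappingCone.inr φ)).f p w := fun w => by
    rw [← ConcreteCategory.comp_apply, coneMap_inr_f]
  exact h z

/-- Hom into a mapping cone is the mapping cone. -/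
theorem isIso_coneMap {F G : DRing.Cx A} (φ : F ⟶ G) : IsIso (coneMap K φ) := by
  have : ∀ n, IsIso ((coneMap K φ).f n) := fun n => by
    rw [ConcreteCategory.isIso_iff_bijective]
    let Φ := DRing.homCxMap K φ
    have hdec : ∀ e : (mappingCone Φ).X n, e = (mappingCone.inl Φ).v (n + 1) n (by omega)
        ((mappingCone.fst Φ).1.v n (n + 1) rfl e) +
          (mappingCone.inr Φ).f n ((mappingCone.snd Φ).v n n (add_zero n) e) := fun e =>
      ConcreteCategory.congr_hom (mappingCone.id_X Φ n (n + 1) rfl).symm e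
    have hv : ∀ (a : Cochain K F (n + 1)) (b : Cochain K G n),
        (a.comp (mappingCone.inl φ) (show n + 1 + -1 = n by omega) +
          b.comp (Cochain.ofHom (mappingCone.inr φ)) (add_zero n)).comp (mappingCone.fst φ).1 rfl = a ∧
        (a.comp (mappingCone.inl φ) (show n + 1 + -1 = n by omega) +
          b.comp (Cochain.ofHom (mappingCone.inr φ)) (add_zero n)).comp (mappingCone.snd φ) (add_zero n) = b :=
      fun a b => by
        constructor <;> refine Cochain.ext _ _ fun p q hpq => ?_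
        · rw [Cochain.comp_v _ _ rfl p (p + n) q rfl (by omega), Cochain.add_v,
            Cochain.comp_v _ _ _ p q (p + n) hpq (by omega), Cochain.comp_zero_cochain_v, Cochain.ofHom_v,
            Preadditive.add_comp, Category.assoc, Category.assoc, mappingCone.inl_v_fst_v,
            mappingCone.inr_f_fst_v, Category.comp_id, comp_zero, add_zero]
        · rw [Cochain.comp_zero_cochain_v, Cochain.add_v, Cochain.comp_v _ _ _ p (q + 1) q (by omega) (by omega),
            Cochain.comp_zero_cochain_v, Cochain.ofHom_v, Preadditive.add_comp, Category.assoc, Category.assoc,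
            mappingCone.inl_v_snd_v, mappingCone.inr_f_snd_v, Category.comp_id, comp_zero, zero_add]
    refine ⟨(injective_iff_map_eq_zero _).2 fun e he => ?_, fun (w : Cochain K (mappingCone φ) n) => ?_⟩
    · rw [hdec e] at he ⊢
      rw [map_add, coneMap_inl, coneMap_inr] at he
      obtain ⟨h1, h2⟩ := hv ((mappingCone.fst Φ).1.v n (n + 1) rfl e) ((mappingCone.snd Φ).v n n (add_zero n) e)
      erw [he] at h1 h2
      erw [Cochain.zero_comp] at h1 h2
      rw [← h1, ← h2]
      exact (congrArg₂ (· + ·) (map_zero _) (map_zero _)).trans (add_zero _)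
    · refine ⟨(mappingCone.inl Φ).v (n + 1) n (by omega) (w.comp (mappingCone.fst φ).1 rfl) +
        (mappingCone.inr Φ).f n (w.comp (mappingCone.snd φ) (add_zero n)), ?_⟩
      rw [map_add, coneMap_inl, coneMap_inr]
      refine Cochain.ext _ _ fun p q hpq => ?_
      refine mappingCone.ext_to φ q (q + 1) rfl ?_ ?_
      · have h := Cochain.congr_v (hv (w.comp (mappingCone.fst φ).1 rfl) (w.comp (mappingCone.snd φ) (add_zero n))).1
          p (q + 1) (by omega)
        rw [Cochain.comp_v _ _ rfl p q (q + 1) hpq rfl, Cochain.comp_v w _ rfl p q (q + 1) hpq rfl] at h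
        exact h
      · have h := Cochain.congr_v (hv (w.comp (mappingCone.fst φ).1 rfl) (w.comp (mappingCone.snd φ) (add_zero n))).2
          p q hpq
        rw [Cochain.comp_zero_cochain_v, Cochain.comp_zero_cochain_v] at h
        exact h
  exact HomologicalComplex.Hom.isIso_of_components _

/-- Hom preserves invertibility of a scalar on K-injective complexes. -/
theorem isIso_smul_homCx {C : DRing.Cx A} [C.IsKInjective] (g : A) [IsIso (g • 𝟙 (DRing.toD C))] :
    IsIso (g • 𝟙 (DRing.toD (DRing.homCx K C))) := by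
  obtain ⟨v, hv⟩ := DR.exists_lift_inj (P := C) (L := C) (inv (g • 𝟙 (DRing.toD C)))
  have hg : DerivedCategory.Q.map (g • 𝟙 C) = g • 𝟙 (DRing.toD C) := by
    rw [Functor.map_smul, CategoryTheory.Functor.map_id]
  have hF : (DRing.homCxQ K).map (g • 𝟙 C) = g • 𝟙 (DRing.toD (DRing.homCx K C)) := by
    change DerivedCategory.Q.map (DRing.homCxMap K (g • 𝟙 C)) = _
    rw [homCxMap_smul, Functor.map_smul]
    exact congrArg (g • ·) ((DRing.homCxQ K).map_id C)
  have key : ∀ u : C ⟶ C, DerivedCategory.Q.map u = 𝟙 _ → (DRing.homCxQ K).map u = 𝟙 _ := fun u hu => by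
    rw [homCxQ_homotopy K u (𝟙 C) ⟨HomotopyCategory.homotopyOfEq _ _
      ((CochainComplex.IsKInjective.Qh_map_bijective _ C).1 ?_)⟩, CategoryTheory.Functor.map_id]
    have h := (DerivedCategory.quotientCompQhIso (ModuleCat.{u} A)).hom.naturality u
    have h' := (DerivedCategory.quotientCompQhIso (ModuleCat.{u} A)).hom.naturality (𝟙 C)
    rw [hu] at h
    rw [CategoryTheory.Functor.map_id DerivedCategory.Q] at h'
    exact (cancel_mono ((DerivedCategory.quotientCompQhIso (ModuleCat.{u} A)).hom.app C)).1 (h.trans h'.symm)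
  rw [← hF]
  refine ⟨(DRing.homCxQ K).map v, ?_, ?_⟩
  · refine ((DRing.homCxQ K).map_comp _ _).symm.trans (key _ ?_)
    rw [Functor.map_comp, hg, hv, IsIso.hom_inv_id]
  · refine ((DRing.homCxQ K).map_comp _ _).symm.trans (key _ ?_)
    rw [Functor.map_comp, hg, hv, IsIso.inv_hom_id]

/-- Hom into the completion step is a reflection. -/
theorem bijective_step (C : DRing.Cx A) [C.IsKInjective] (g : A) {E : Dual.D A} (hE : DCpl.DCObj g E) :
    Function.Bijective fun ψ : DRing.toD (DRing.homCx K (DCpl.complCx C g)) ⟶ E =>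
      DerivedCategory.Q.map (DRing.homCxMap K (DCpl.toComplCx C g)) ≫ ψ := by
  haveI := isKInjective_seqCx C
  haveI : (DCpl.complCx C g).IsKInjective := isKInjective_mappingCone _
  let τ := DCpl.toComplCx C g
  haveI : (mappingCone τ).IsKInjective := isKInjective_mappingCone τ
  haveI := DCpl.isIso_smul_cone C g
  haveI := isIso_smul_homCx K (C := mappingCone τ) g
  haveI := isIso_coneMap K τ
  have hinst : IsIso (g • 𝟙 (DRing.toD (mappingCone (DRing.homCxMap K τ)))) :=
    DCpl.isIso_smul_of_iso (DerivedCategory.Q.mapIso (asIso (coneMap K τ))).symm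
  let e := (CategoryTheory.shiftFunctorZero (Dual.D A) ℤ).app E
  have h := (DCpl.subsingleton_iff_precomp_bijective _
    (DerivedCategory.mappingCone_triangle_distinguished (DRing.homCxMap K τ)) E).1 (fun n =>
      ⟨fun a b => (@(DCpl.dcObj_iff_orth g _).1 (DCpl.dcObj_shift hE n) _ hinst a).trans
        (@(DCpl.dcObj_iff_orth g _).1 (DCpl.dcObj_shift hE n) _ hinst b).symm⟩) 0
  refine ⟨fun a b hab => (cancel_mono e.inv).1 (h.1 ?_), fun b => ?_⟩
  · change DerivedCategory.Q.map (DRing.homCxMap K τ) ≫ a ≫ e.inv =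
      DerivedCategory.Q.map (DRing.homCxMap K τ) ≫ b ≫ e.inv
    rw [← Category.assoc, ← Category.assoc]
    exact congrArg (· ≫ e.inv) hab
  · obtain ⟨a, ha⟩ := h.2 (b ≫ e.inv)
    refine ⟨a ≫ e.hom, ?_⟩
    change DerivedCategory.Q.map (DRing.homCxMap K τ) ≫ a ≫ e.hom = b
    rw [← Category.assoc, show DerivedCategory.Q.map (DRing.homCxMap K τ) ≫ a = b ≫ e.inv from ha]
    simp

/-- Completion inside K-injective complexes, with its image under Hom. -/
theorem exists_completion_kInj (s : Finset A) (C₀ : DRing.Cx A) [C₀.IsKInjective] :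
    ∃ (C : DRing.Cx A) (φ : C₀ ⟶ C), C.IsKInjective ∧ (∀ g ∈ s, DCpl.DCObj g (DRing.toD C)) ∧
      ∀ E : Dual.D A, (∀ g ∈ s, DCpl.DCObj g E) →
        Function.Bijective (fun ψ : DRing.toD C ⟶ E => DerivedCategory.Q.map φ ≫ ψ) ∧
        Function.Bijective (fun ψ : DRing.toD (DRing.homCx K C) ⟶ E => (DRing.homCxQ K).map φ ≫ ψ) := by
  classical
  induction s using Finset.induction with
  | empty =>
    refine ⟨C₀, 𝟙 C₀, inferInstance, by simp, fun E _ => ⟨?_, ?_⟩⟩
    · simp only [CategoryTheory.Functor.map_id, Category.id_comp]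
      exact Function.bijective_id
    · have h1 := (DRing.homCxQ K).map_id C₀
      simp only [h1]
      exact (Iso.homFromEquiv (Iso.refl (DRing.toD (DRing.homCx K C₀)))).bijective
  | insert f t ht ih =>
    obtain ⟨C, φ, hC, hL, hU⟩ := ih
    haveI := isKInjective_seqCx C
    refine ⟨DCpl.complCx C f, φ ≫ DCpl.toComplCx C f, isKInjective_mappingCone _, fun g hg => ?_, fun E hE => ?_⟩
    · refine DCpl.dcObj_complCx C f g ?_
      rcases Finset.mem_insert.1 hg with rfl | hg
      · exact Or.inl rfl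
      · exact Or.inr (hL g hg)
    · obtain ⟨h1, h1'⟩ := hU E fun g hg => hE g (Finset.mem_insert_of_mem hg)
      have h2 := DCpl.precomp_toComplCx_bijective C f (hE f (Finset.mem_insert_self f t))
      have h2' := bijective_step K C f (hE f (Finset.mem_insert_self f t))
      refine ⟨?_, ?_⟩
      · convert h1.comp h2 using 1
        funext ψ
        simp
      · convert h1'.comp h2' using 1
        funext ψ
        rw [Functor.map_comp, Category.assoc]
        rfl

/-- Invertibility of a scalar survives a K-flat tensor product. -/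
theorem isIso_smul_tens (K' : DRing.Cx A) (hK' : GrothLib.KF.IsKFlat K') (P : DRing.Cx A) (f : A)
    [IsIso (f • 𝟙 (DRing.toD P))] : IsIso (f • 𝟙 (DRing.toD (tens P K'))) := by
  haveI : QuasiIso (f • 𝟙 P) := (DerivedCategory.isIso_Q_map_iff_quasiIso (C := ModuleCat.{u} A) _).1 (by
    rw [Functor.map_smul, CategoryTheory.Functor.map_id]; infer_instance)
  haveI : QuasiIso (((GrothLib.KF.tensorCx (R := A)).map (f • 𝟙 P)).app K') :=
    GrothLib.KF.quasiIso_map_of_isKFlat (f • 𝟙 P) K' hK'
  have h : ((GrothLib.KF.tensorCx (R := A)).map (f • 𝟙 P)).app K' = f • 𝟙 (tens P K') := by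
    refine HomologicalComplex.hom_ext _ _ fun n => HomologicalComplex.mapBifunctor.hom_ext fun p r h => ?_
    refine (HomologicalComplex.ι_mapBifunctorMap _ _ _ _ _ _ _ _).trans ?_
    refine ModuleCat.MonoidalCategory.tensor_ext fun x y => ?_
    change ιT P K' p r n h ((f • x) ⊗ₜ y) = f • ιT P K' p r n h (x ⊗ₜ y)
    rw [← TensorProduct.smul_tmul', map_smul]
  have := quasiIso_Q (((GrothLib.KF.tensorCx (R := A)).map (f • 𝟙 P)).app K')
  rw [h, Functor.map_smul, CategoryTheory.Functor.map_id] at this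
  exact this

/-- Derived Hom of derived complete objects is derived complete. -/
theorem isDerivedComplete_rHom (I : Ideal A) [DRing.HasRHomCx K] {L : Dual.D A}
    (hL : DRing.IsDerivedComplete I L) : DRing.IsDerivedComplete I ((DRing.RHomCx K).obj L) := by
  obtain ⟨J, hJ, ⟨eJ⟩⟩ := exists_kInjective_rep L
  obtain ⟨K', s, hK', -, hs, -⟩ := GrothLib.KF.exists_kflat_resolution K
  haveI := hs
  haveI := quasiIso_homCxPre s J
  haveI := quasiIso_Q (homCxPre s J)
  haveI := isKInjective_homCx K' J hK'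
  have e : (DRing.RHomCx K).obj L ≅ DRing.toD (DRing.homCx K' J) :=
    (DRing.RHomCx K).mapIso eJ ≪≫ (rHom_value K J).some ≪≫ asIso (DerivedCategory.Q.map (homCxPre s J))
  rw [DCpl.isDerivedComplete_iff] at hL ⊢
  intro f hf
  refine DCpl.dcObj_of_iso e.symm ((DCpl.dcObj_iff_orth f _).2 fun X hX ξ => ?_)
  obtain ⟨P, ⟨eP⟩⟩ : ∃ P : DRing.Cx A, Nonempty (DRing.toD P ≅ X) :=
    ⟨_, ⟨DerivedCategory.Q.objObjPreimageIso X⟩⟩
  obtain ⟨P', t, hP', -, ht, -⟩ := GrothLib.KF.exists_kflat_resolution P
  haveI := ht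
  haveI := quasiIso_Q t
  let eX : DRing.toD P' ≅ X := asIso (DerivedCategory.Q.map t) ≪≫ eP
  haveI : IsIso (f • 𝟙 (DRing.toD P')) := DCpl.isIso_smul_of_iso eX.symm
  obtain ⟨φ, hφ⟩ := DR.exists_lift_inj (L := DRing.homCx K' J) (eX.hom ≫ ξ)
  suffices h0 : DerivedCategory.Q.map φ = 0 by
    rw [h0] at hφ
    exact (cancel_epi eX.hom).1 (hφ.symm.trans comp_zero.symm)
  let ψ : Cochain (tens P' K') J 0 := assocEquiv P' K' J 0 (Cochain.ofHom φ)
  have hψ : δ 0 1 ψ = 0 := by rw [assocEquiv_δ' P' K' J 0 1 rfl, δ_ofHom, map_zero]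
  haveI : IsIso (f • 𝟙 (DRing.toD (tens P' K'))) := isIso_smul_tens K' hK' P' f
  have hψ0 : DerivedCategory.Q.map (Cocycle.homOf (Cocycle.mk ψ 1 rfl hψ)) = 0 :=
    (DCpl.dcObj_iff_orth f (DRing.toD J)).1 (DCpl.dcObj_of_iso eJ (hL f hf)) _ _
  obtain ⟨h⟩ : Nonempty (Homotopy (Cocycle.homOf (Cocycle.mk ψ 1 rfl hψ)) 0) := by
    refine ⟨HomotopyCategory.homotopyOfEq _ _ ((CochainComplex.IsKInjective.Qh_map_bijective _ J).1 ?_)⟩
    have h := (DerivedCategory.quotientCompQhIso (ModuleCat.{u} A)).hom.naturality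
      (Cocycle.homOf (Cocycle.mk ψ 1 rfl hψ))
    rw [hψ0, comp_zero] at h
    rw [Functor.map_zero, Functor.map_zero]
    exact (cancel_mono _).1 (h.trans zero_comp.symm)
  have h1 := (Cochain.equivHomotopy _ _ h).2
  have h2 : ψ = δ (-1) 0 (Cochain.equivHomotopy _ _ h).1 := (Cocycle.cochain_ofHom_homOf_eq_coe _).symm.trans
    (h1.trans ((congrArg (_ + ·) (Cochain.ofHom_zero _ _)).trans (add_zero _)))
  obtain ⟨b, hb⟩ := (assocEquiv P' K' J (-1)).surjective (Cochain.equivHomotopy _ _ h).1
  rw [← hb, assocEquiv_δ' P' K' J (-1) 0 rfl] at h2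
  have H : Homotopy φ 0 := (Cochain.equivHomotopy φ 0).symm ⟨b, by
    rw [Cochain.ofHom_zero, add_zero]
    exact (assocEquiv P' K' J 0).injective h2⟩
  rw [DerivedCategory.Q_map_eq_of_homotopy _ H, Functor.map_zero]

/-- Derived Hom commutes with derived completion. -/
theorem rHom_completion (I : Ideal A) (hI : I.FG) [DRing.HasDerivedCompletion I] [DRing.HasRHomCx K] (L : Dual.D A)
    (E : Dual.D A) (hE : DRing.IsDerivedComplete I E) :
    Function.Bijective (fun φ : (DRing.RHomCx K).obj ((DRing.derivedCompletion I).obj L).obj ⟶ E =>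
      (DRing.RHomCx K).map (DRing.toDerivedCompletion I L) ≫ φ) := by
  obtain ⟨s, hs⟩ := hI
  have hE' : ∀ g ∈ s, DCpl.DCObj g E := fun g hg => (DCpl.isDerivedComplete_iff I E).1 hE g (hs ▸ Ideal.subset_span hg)
  obtain ⟨C₀, hC₀, ⟨e₀⟩⟩ := exists_kInjective_rep L
  obtain ⟨C, φ, hC, hcompl, hU⟩ := exists_completion_kInj K s C₀
  let η : L ⟶ DRing.toD C := e₀.hom ≫ DerivedCategory.Q.map φ
  obtain ⟨e, he⟩ := DCpl.exists_iso_completion I hs η hcompl fun E' hE'' =>
    ((Iso.homFromEquiv e₀.symm).bijective.comp (hU E' hE'').1 : _) |> fun h => by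
      convert h using 1
      funext ψ
      simp [η]
  have hu := fun J (hJ : CochainComplex.IsKInjective J) =>
    @GrothLib.Derive.isIso_totalRightDerivedUnit_app _ _ _ _ _ _ _ (DRing.homCxQ K) (homCxQ_homotopy K) _ J hJ
  let u := fun J (hJ : CochainComplex.IsKInjective J) => @asIso _ _ _ _ _ (hu J hJ)
  have hsq : (DRing.RHomCx K).map (DerivedCategory.Q.map φ) =
      (u C₀ hC₀).inv ≫ (DRing.homCxQ K).map φ ≫ (u C hC).hom := by
    rw [Iso.eq_inv_comp]
    exact (((DRing.homCxQ K).totalRightDerivedUnit DerivedCategory.Q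
      (HomologicalComplex.quasiIso (ModuleCat.{u} A) (ComplexShape.up ℤ))).naturality φ).symm
  have hη : DRing.toDerivedCompletion I L = e₀.hom ≫ DerivedCategory.Q.map φ ≫ e.inv := by
    rw [← Category.assoc, Iso.eq_comp_inv]
    exact he
  let Φ := DRing.RHomCx K
  have h := ((Iso.homFromEquiv ((Φ.mapIso e₀ ≪≫ (u C₀ hC₀).symm)).symm).bijective.comp (hU E hE').2).comp
    (Iso.homFromEquiv (Φ.mapIso e ≪≫ (u C hC).symm)).bijective
  convert h using 1
  funext ψ
  rw [hη, Functor.map_comp, Functor.map_comp, hsq]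
  simp [Φ]

end GrothLib.RH
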