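import Groth.Agent.Lib.DCxRHom.Rep
import Groth.Prelude.Def_DRing2
import Mathlib.Algebra.Homology.HomotopyCategory.HomComplexSingle
import Mathlib.LinearAlgebra.Dual.Lemmas

/-! # Duals of strictly perfect complexes -/

set_option autoImplicit false
universe u

open CategoryTheory CategoryTheory.Limits CochainComplex.HomComplex HomologicalComplex
attribute [local instance] HasDerivedCategory.standard

namespace GrothLib.RH

variable {A : Type u} [CommRing A]

variable (A) in
/-- The unit complex. -/
noncomputable abbrev oneCx : DRing.Cx A :=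
  (HomologicalComplex.single (ModuleCat.{u} A) (ComplexShape.up ℤ) 0).obj (ModuleCat.of A A)

/-- Cochains to the unit complex as functionals. -/
noncomputable def dualEquiv (P : DRing.Cx A) {p m : ℤ} (h : p + m = 0) :
    Cochain P (oneCx A) m ≃ₗ[A] Module.Dual A (P.X p) :=
  { (Cochain.toSingleEquiv (K := P) (X := ModuleCat.of A A) h).toEquiv.trans
      (ModuleCat.homEquiv (M := P.X p) (N := ModuleCat.of A A)) with
    map_add' := fun φ φ' => congrArg ModuleCat.Hom.hom
      ((Cochain.toSingleEquiv (K := P) (X := ModuleCat.of A A) h).map_add φ φ')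
    map_smul' := fun a φ => LinearMap.ext fun x => by
      change (singleObjXSelf (ComplexShape.up ℤ) 0 (ModuleCat.of A A)).hom (a • φ.v p 0 h x) = _
      rw [map_smul]
      rfl }

lemma dualEquiv_apply (P : DRing.Cx A) {p m : ℤ} (h : p + m = 0) (φ : Cochain P (oneCx A) m) (x : P.X p) :
    dualEquiv P h φ x = (singleObjXSelf (ComplexShape.up ℤ) 0 (ModuleCat.of A A)).hom (φ.v p 0 h x) := rfl

lemma termwiseFiniteProjective_dual {P : DRing.Cx A} (hP : DRing.TermwiseFiniteProjective P) :
    DRing.TermwiseFiniteProjective (DRing.homCx P (oneCx A)) := fun m => by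
  obtain ⟨h1, h2⟩ := hP (-m)
  haveI := h1
  haveI := h2
  let e : (DRing.homCx P (oneCx A)).X m ≃ₗ[A] Module.Dual A (P.X (-m)) := dualEquiv P (neg_add_cancel m)
  exact ⟨Module.Finite.equiv e.symm, Module.Projective.of_equiv e.symm⟩

lemma vanishesOutside_dual {P : DRing.Cx A} {a b : ℤ} (hP : DRing.VanishesOutside P a b) :
    DRing.VanishesOutside (DRing.homCx P (oneCx A)) (-b) (-a) := fun m hm => by
  haveI := ModuleCat.subsingleton_of_isZero (hP (-m) (by omega))
  let e : (DRing.homCx P (oneCx A)).X m ≃ₗ[A] Module.Dual A (P.X (-m)) := dualEquiv P (neg_add_cancel m)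
  haveI := e.toEquiv.subsingleton
  exact ModuleCat.isZero_of_subsingleton _

/-- The map to the bidual complex, in one degree. -/
noncomputable def evFun (P : DRing.Cx A) (n : ℤ) :
    P.X n →ₗ[A] Cochain (DRing.homCx P (oneCx A)) (oneCx A) n where
  toFun x := Cochain.mk fun m t h => ModuleCat.ofHom
    { toFun := fun φ : Cochain P (oneCx A) m => (n.negOnePow : ℤ) • φ.v n t (by omega) x
      map_add' := fun φ φ' => smul_add (n.negOnePow : ℤ) (φ.v n t (by omega) x) (φ'.v n t (by omega) x)
      map_smul' := fun a φ => (smul_comm (n.negOnePow : ℤ) a (φ.v n t (by omega) x)) }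
  map_add' x x' := Cochain.ext _ _ fun m t h => ModuleCat.hom_ext (LinearMap.ext fun (φ : Cochain P (oneCx A) m) => by
    change (n.negOnePow : ℤ) • φ.v n t _ (x + x') = (n.negOnePow : ℤ) • φ.v n t _ x + (n.negOnePow : ℤ) • φ.v n t _ x'
    rw [map_add, smul_add])
  map_smul' a x := Cochain.ext _ _ fun m t h => ModuleCat.hom_ext (LinearMap.ext fun (φ : Cochain P (oneCx A) m) => by
    change (n.negOnePow : ℤ) • φ.v n t _ (a • x) = a • ((n.negOnePow : ℤ) • φ.v n t _ x)
    rw [map_smul, smul_comm])

lemma evFun_v (P : DRing.Cx A) (n m t : ℤ) (h : m + n = t) (x : P.X n) (φ : Cochain P (oneCx A) m) :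
    (evFun P n x).v m t h φ = (n.negOnePow : ℤ) • φ.v n t (by omega) x := rfl

/-- The map to the bidual complex. -/
noncomputable def ev (P : DRing.Cx A) : P ⟶ DRing.homCx (DRing.homCx P (oneCx A)) (oneCx A) where
  f n := ModuleCat.ofHom (evFun P n)
  comm' n k hk := by
    obtain rfl : n + 1 = k := hk
    refine ModuleCat.hom_ext (LinearMap.ext fun x => ?_)
    change δ n (n + 1) (evFun P n x) = evFun P (n + 1) (P.d n (n + 1) x)
    refine Cochain.ext _ _ fun m t h => ModuleCat.hom_ext (LinearMap.ext fun (φ : Cochain P (oneCx A) m) => ?_)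
    by_cases ht : t = 0
    · subst ht
      have h2 : (δ m (m + 1) φ).v n 0 (by omega) x =
          ((m + 1).negOnePow : ℤ) • φ.v (n + 1) 0 (by omega) (P.d n (n + 1) x) := by
        rw [δ_app φ n 0 (-1) (n + 1) (by omega) (by omega) rfl x, HomologicalComplex.single_obj_d]
        exact zero_add _
      rw [δ_app (evFun P n x) m 0 (-1) (m + 1) h (by omega) rfl φ, HomologicalComplex.single_obj_d]
      refine (zero_add _).trans ?_
      change ((n + 1).negOnePow : ℤ) • ((n.negOnePow : ℤ) • (δ m (m + 1) φ).v n 0 _ x) =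
        ((n + 1).negOnePow : ℤ) • φ.v (n + 1) 0 _ (P.d n (n + 1) x)
      rw [h2, ← smul_assoc (n.negOnePow : ℤ), smul_eq_mul, ← Units.val_mul, ← Int.negOnePow_add,
        show n + (m + 1) = 0 by omega, Int.negOnePow_zero, Units.val_one, one_smul]
    · haveI := ModuleCat.subsingleton_of_isZero
        (HomologicalComplex.isZero_single_obj_X (ComplexShape.up ℤ) 0 (ModuleCat.of A A) t ht)
      exact Subsingleton.elim _ _

/-- The map to the bidual of a complex with finite projective terms is an isomorphism. -/
theorem isIso_ev {P : DRing.Cx A} (hP : DRing.TermwiseFiniteProjective P) : IsIso (ev P) := by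
  have : ∀ n, IsIso ((ev P).f n) := fun n => by
    obtain ⟨h1, h2⟩ := hP n
    haveI := h1
    haveI := h2
    let e1 := dualEquiv P (show n + -n = 0 by omega)
    let e2 : Cochain (DRing.homCx P (oneCx A)) (oneCx A) n ≃ₗ[A] Module.Dual A (Cochain P (oneCx A) (-n)) :=
      dualEquiv (DRing.homCx P (oneCx A)) (show -n + n = 0 by omega)
    have he : ∀ x, e2 (evFun P n x) = (n.negOnePow : ℤ) • (Module.Dual.eval A (P.X n) x).comp e1.toLinearMap := by
      intro x
      refine LinearMap.ext fun φ => ?_
      change (singleObjXSelf (ComplexShape.up ℤ) 0 (ModuleCat.of A A)).hom ((n.negOnePow : ℤ) • φ.v n 0 _ x) = _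
      rw [map_zsmul]
      rfl
    have hev : Function.Bijective fun x : P.X n => (Module.Dual.eval A (P.X n) x).comp e1.toLinearMap :=
      (LinearEquiv.dualMap e1).bijective.comp (Module.bijective_dual_eval A (P.X n))
    have hb : Function.Bijective fun x => e2.symm ((n.negOnePow : ℤ) • (Module.Dual.eval A (P.X n) x).comp e1.toLinearMap) := by
      refine e2.symm.bijective.comp (Function.Bijective.comp (g := fun d => (n.negOnePow : ℤ) • d) ?_ hev)
      exact MulAction.bijective n.negOnePow
    have hf : ⇑(evFun P n) = fun x => e2.symm ((n.negOnePow : ℤ) • (Module.Dual.eval A (P.X n) x).comp e1.toLinearMap) :=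
      funext fun x => e2.injective ((he x).trans (e2.apply_symm_apply _).symm)
    rw [← hf] at hb
    exact (ConcreteCategory.isIso_iff_bijective _).2 hb
  exact HomologicalComplex.Hom.isIso_of_components _

end GrothLib.RH
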