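import Groth.Agent.Lib.DCxRHom.Dual
import Mathlib.LinearAlgebra.Contraction
import Mathlib.Data.Int.Interval

/-! # Hom out of a strictly perfect complex is tensoring with the dual -/

set_option autoImplicit false
universe u

open CategoryTheory CategoryTheory.Limits MonoidalCategory CochainComplex.HomComplex HomologicalComplex
open scoped TensorProduct
attribute [local instance] HasDerivedCategory.standard

namespace GrothLib.RH

variable {A : Type u} [CommRing A]

/-- Cochains concentrated in one bidegree, linearly in the component. -/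
noncomputable def singleLin (F G : DRing.Cx A) (p q n : ℤ) : (F.X p →ₗ[A] G.X q) →ₗ[A] Cochain F G n where
  toFun f := Cochain.single (ModuleCat.ofHom f) n
  map_add' f f' := Cochain.ext _ _ fun p' q' h => by
    by_cases hp : p' = p
    · subst hp
      by_cases hq : q' = q
      · subst hq
        rw [Cochain.add_v, Cochain.single_v, Cochain.single_v, Cochain.single_v]
        rfl
      · rw [Cochain.add_v, Cochain.single_v_eq_zero' _ _ _ _ _ hq, Cochain.single_v_eq_zero' _ _ _ _ _ hq,
          Cochain.single_v_eq_zero' _ _ _ _ _ hq, add_zero]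
    · rw [Cochain.add_v, Cochain.single_v_eq_zero _ _ _ _ _ hp, Cochain.single_v_eq_zero _ _ _ _ _ hp,
        Cochain.single_v_eq_zero _ _ _ _ _ hp, add_zero]
  map_smul' a f := Cochain.ext _ _ fun p' q' h => by
    by_cases hp : p' = p
    · subst hp
      by_cases hq : q' = q
      · subst hq
        rw [RingHom.id_apply, Cochain.smul_v, Cochain.single_v, Cochain.single_v]
        rfl
      · rw [RingHom.id_apply, Cochain.smul_v, Cochain.single_v_eq_zero' _ _ _ _ _ hq,
          Cochain.single_v_eq_zero' _ _ _ _ _ hq, smul_zero]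
    · rw [RingHom.id_apply, Cochain.smul_v, Cochain.single_v_eq_zero _ _ _ _ _ hp,
        Cochain.single_v_eq_zero _ _ _ _ _ hp, smul_zero]

variable (P K : DRing.Cx A)

/-- A functional and an element as a cochain. -/
noncomputable def dtBil (m r n : ℤ) : Cochain P (oneCx A) m ⊗[A] K.X r →ₗ[A] Cochain P K n :=
  ((m * r).negOnePow : ℤ) • ((singleLin P K (-m) r n).comp
    ((dualTensorHom A (P.X (-m)) (K.X r)).comp
      ((dualEquiv P (neg_add_cancel m)).toLinearMap.rTensor (K.X r))))

lemma dtBil_tmul (m r n : ℤ) (φ : Cochain P (oneCx A) m) (k : K.X r) :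
    dtBil P K m r n (φ ⊗ₜ k) = ((m * r).negOnePow : ℤ) •
      Cochain.single (ModuleCat.ofHom ((dualEquiv P (neg_add_cancel m) φ).smulRight k) : P.X (-m) ⟶ K.X r) n := rfl

/-- The comparison in degree `n`. -/
noncomputable def dtHom (n : ℤ) : (tens (DRing.homCx P (oneCx A)) K).X n ⟶ (DRing.homCx P K).X n :=
  HomologicalComplex.mapBifunctorDesc fun m r _ => ModuleCat.ofHom (dtBil P K m r n)

lemma dtHom_ι (n m r : ℤ) (h : m + r = n) (e : Cochain P (oneCx A) m ⊗[A] K.X r) :
    dtHom P K n (ιT (DRing.homCx P (oneCx A)) K m r n h e) = dtBil P K m r n e :=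
  ConcreteCategory.congr_hom (HomologicalComplex.ι_mapBifunctorDesc
    (K₁ := DRing.homCx P (oneCx A)) (K₂ := K) (F := curriedTensor (ModuleCat.{u} A)) (c := ComplexShape.up ℤ)
    (f := fun m r _ => ModuleCat.ofHom (dtBil P K m r n)) m r h) e

/-- The comparison map. -/
noncomputable def dt : tens (DRing.homCx P (oneCx A)) K ⟶ DRing.homCx P K where
  f := dtHom P K
  comm' n n' hn := by
    obtain rfl : n + 1 = n' := hn
    refine HomologicalComplex.mapBifunctor.hom_ext fun m r (h : m + r = n) =>
      ModuleCat.MonoidalCategory.tensor_ext fun (φ : Cochain P (oneCx A) m) k => ?_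
    change δ n (n + 1) (dtHom P K n (ιT _ K m r n h (φ ⊗ₜ k))) =
      dtHom P K (n + 1) ((tens _ K).d n (n + 1) (ιT _ K m r n h (φ ⊗ₜ k)))
    rw [dtHom_ι, d_ιT, map_add, map_zsmul, dtHom_ι, dtHom_ι]
    erw [dtBil_tmul, dtBil_tmul, dtBil_tmul]
    rw [show ∀ (c : ℤ) (z : Cochain P K n), δ n (n + 1) (c • z) = c • δ n (n + 1) z from
      fun c z => map_zsmul (δ_hom A P K n (n + 1)) c z, Cochain.δ_single _ n (n + 1) rfl (-(m + 1)) (r + 1) (by omega) rfl, smul_add, Units.smul_def,
      smul_smul, ← Units.val_mul, ← Int.negOnePow_add]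
    erw [smul_smul]
    rw [← Units.val_mul, ← Int.negOnePow_add]
    rw [add_comm (((m * r).negOnePow : ℤ) • _)]
    refine congrArg₂ (· + ·) ?_ ?_
    · have hf : (P.d (-(m + 1)) (-m) ≫ ModuleCat.ofHom ((dualEquiv P (neg_add_cancel m) φ).smulRight k)) =
          ((m + 1).negOnePow : ℤ) •
            ModuleCat.ofHom ((dualEquiv P (neg_add_cancel (m + 1)) (δ m (m + 1) φ)).smulRight k) := by
        refine ModuleCat.hom_ext (LinearMap.ext fun x => ?_)
        change (dualEquiv P (neg_add_cancel m) φ (P.d (-(m + 1)) (-m) x)) • k =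
          ((m + 1).negOnePow : ℤ) • (dualEquiv P (neg_add_cancel (m + 1)) (δ m (m + 1) φ) x • k)
        rw [dualEquiv_apply, dualEquiv_apply, δ_app φ (-(m + 1)) 0 (-1) (-m) (by omega) (by omega) (by omega) x,
          HomologicalComplex.single_obj_d, ← smul_assoc]
        refine congrArg (· • k) ?_
        rw [← map_zsmul]
        refine congrArg _ ?_
        change _ = ((m + 1).negOnePow : ℤ) • (0 + ((m + 1).negOnePow : ℤ) • _)
        rw [zero_add, smul_smul, Int.units_coe_mul_self, one_smul]
      rw [hf]
      change _ • singleLin P K (-(m + 1)) r (n + 1) (((m + 1).negOnePow : ℤ) • _) = _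
      rw [map_zsmul, smul_smul, ← Units.val_mul, ← Int.negOnePow_add]
      refine congrArg₂ (fun (s : ℤ) (c : Cochain P K (n + 1)) => s • c) ?_ rfl
      refine congrArg Units.val ((Int.negOnePow_eq_iff _ _).2 ⟨m + 1, ?_⟩)
      subst h
      ring
    · refine congrArg₂ (fun (s : ℤ) (c : Cochain P K (n + 1)) => s • c) ?_ ?_
      · refine congrArg Units.val ((Int.negOnePow_eq_iff _ _).2 ⟨-m, ?_⟩)
        ring
      · refine congrArg (fun f => Cochain.single f (n + 1)) ?_
        exact ModuleCat.hom_ext (LinearMap.ext fun x => map_smul (K.d r (r + 1)).hom _ k)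

variable {P} {a b : ℤ}

/-- The comparison is invertible for strictly perfect complexes. -/
theorem isIso_dt (hP : DRing.TermwiseFiniteProjective P) (hab : DRing.VanishesOutside P a b) : IsIso (dt P K) := by
  have hb : ∀ n, IsIso ((dt P K).f n) := fun n => by
    let D := DRing.homCx P (oneCx A)
    haveI : ∀ p, Module.Finite A (P.X p) := fun p => (hP p).1
    haveI : ∀ p, Module.Projective A (P.X p) := fun p => (hP p).2
    let piece : ℤ → Cochain P K n →ₗ[A] (tens D K).X n := fun p =>
      ((((-p) * (n + p)).negOnePow : ℤ) •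
        (ιT D K (-p) (n + p) n (by omega)).hom.comp
          (((dualEquiv P (show p + -p = 0 by omega)).symm.toLinearMap.rTensor (K.X (n + p))).comp
            ((dualTensorHomEquiv A (P.X p) (K.X (n + p))).symm.toLinearMap.comp
              (vLin P K n p (n + p) (by omega)))))
    let Ψ : Cochain P K n →ₗ[A] (tens D K).X n := ∑ p ∈ Finset.Icc a b, piece p
    have hsummand : ∀ (p : ℤ) (ψ : Cochain P K n), dtHom P K n (piece p ψ) =
        Cochain.single (ψ.v p (n + p) (by omega)) n := by
      intro p ψ
      let e := (dualTensorHomEquiv A (P.X p) (K.X (n + p))).symm (ψ.v p (n + p) (by omega)).hom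
      change dtHom P K n ((((-p) * (n + p)).negOnePow : ℤ) • ιT D K (-p) (n + p) n _
        ((dualEquiv P (show p + -p = 0 by omega)).symm.toLinearMap.rTensor (K.X (n + p)) e)) = _
      rw [map_zsmul, dtHom_ι]
      rw [dtBil, LinearMap.smul_apply]
      erw [smul_smul]
      rw [Int.units_coe_mul_self, one_smul]
      have key : ∀ (p' : ℤ) (hp' : p' = p) (e : Module.Dual A (P.X p) ⊗[A] K.X (n + p)),
          singleLin P K p' (n + p) n (dualTensorHom A (P.X p') (K.X (n + p))
            ((dualEquiv P (show p' + -p = 0 by omega)).toLinearMap.rTensor (K.X (n + p))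
              ((dualEquiv P (show p + -p = 0 by omega)).symm.toLinearMap.rTensor (K.X (n + p)) e))) =
          singleLin P K p (n + p) n (dualTensorHom A (P.X p) (K.X (n + p)) e) := by
        intro p' hp' e
        subst hp'
        rw [← LinearMap.comp_apply (LinearMap.rTensor _ _), ← LinearMap.rTensor_comp,
          LinearEquiv.comp_symm, LinearMap.rTensor_id]
        rfl
      refine (key (- -p) (neg_neg p) e).trans ?_
      exact congrArg (singleLin P K p (n + p) n)
        ((dualTensorHomEquiv A (P.X p) (K.X (n + p))).apply_symm_apply _)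
    have hz : ∀ p, p ∉ Finset.Icc a b → IsZero (P.X p) := fun p hp => hab p (by
      rw [Finset.mem_Icc] at hp
      omega)
    have hr : ∀ ψ, dtHom P K n (Ψ ψ) = ψ := fun ψ => by
      refine Cochain.ext _ _ fun p q hpq => ?_
      obtain rfl : q = n + p := by omega
      by_cases hp : p ∈ Finset.Icc a b
      · refine ModuleCat.hom_ext ?_
        change vLin P K n p (n + p) hpq (dtHom P K n (Ψ ψ)) = vLin P K n p (n + p) hpq ψ
        rw [LinearMap.sum_apply, map_sum]
        simp only [hsummand]
        refine (map_sum (vLin P K n p (n + p) hpq) (fun c => Cochain.single (ψ.v c (n + c) (by omega)) n)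
          (Finset.Icc a b)).trans ?_
        rw [Finset.sum_eq_single p]
        · change ((Cochain.single (ψ.v p (n + p) hpq) n).v p (n + p) hpq).hom = _
          rw [Cochain.single_v]
          rfl
        · intro c _ hc
          change ((Cochain.single (ψ.v c (n + c) (by omega)) n).v p (n + p) hpq).hom = 0
          rw [Cochain.single_v_eq_zero _ _ _ _ _ (Ne.symm hc), ModuleCat.hom_zero]
        · exact fun h => absurd hp h
      · exact (hz p hp).eq_of_src _ _
    have hl : ∀ e, Ψ (dtHom P K n e) = e := by
      have : dtHom P K n ≫ ModuleCat.ofHom Ψ = 𝟙 _ := by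
        refine HomologicalComplex.mapBifunctor.hom_ext fun m r (h : m + r = n) =>
          ModuleCat.MonoidalCategory.tensor_ext fun (φ : Cochain P (oneCx A) m) k => ?_
        change Ψ (dtHom P K n (ιT D K m r n h (φ ⊗ₜ k))) = ιT D K m r n h (φ ⊗ₜ k)
        rw [dtHom_ι]
        by_cases hp : -m ∈ Finset.Icc a b
        · have hz' : ∀ c, c ≠ -m → piece c (dtBil P K m r n (φ ⊗ₜ k)) = 0 := fun c hc => by
            have h0 : vLin P K n c (n + c) (by omega) (dtBil P K m r n (φ ⊗ₜ k)) = 0 := by
              rw [dtBil_tmul, map_zsmul]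
              change ((m * r).negOnePow : ℤ) • ((Cochain.single (ModuleCat.ofHom
                ((dualEquiv P (neg_add_cancel m) φ).smulRight k) : P.X (-m) ⟶ K.X r) n).v c (n + c) (by omega)).hom = 0
              rw [Cochain.single_v_eq_zero _ _ _ _ _ hc, ModuleCat.hom_zero, smul_zero]
            let G := (ιT D K (-c) (n + c) n (by omega)).hom.comp
              (((dualEquiv P (show c + -c = 0 by omega)).symm.toLinearMap.rTensor (K.X (n + c))).comp
                (dualTensorHomEquiv A (P.X c) (K.X (n + c))).symm.toLinearMap)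
            change (((-c) * (n + c)).negOnePow : ℤ) • G (vLin P K n c (n + c) _ (dtBil P K m r n (φ ⊗ₜ k))) = 0
            rw [h0, map_zero, smul_zero]
          rw [LinearMap.sum_apply]
          refine (Finset.sum_eq_single (-m) (fun c _ hc => hz' c hc) (fun h => absurd hp h)).trans ?_
          have key : ∀ (m' r' : ℤ) (h' : m' + r' = n) (hm : m' = m) (hr : r' = r) (hpm : -m + m' = 0)
              (hpr : -m + n = r'),
              ((m' * r').negOnePow : ℤ) • ιT D K m' r' n h' ((dualEquiv P hpm).symm.toLinearMap.rTensor (K.X r')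
                ((dualTensorHomEquiv A (P.X (-m)) (K.X r')).symm (vLin P K n (-m) r' hpr (dtBil P K m r n (φ ⊗ₜ k))))) =
              ιT D K m r n h (φ ⊗ₜ k) := by
            intro m' r' h' hm hr hpm hpr
            subst hm hr
            let G := (ιT D K m' r' n h').hom.comp
              (((dualEquiv P hpm).symm.toLinearMap.rTensor (K.X r')).comp
                (dualTensorHomEquiv A (P.X (-m')) (K.X r')).symm.toLinearMap)
            change _ • G (vLin P K n (-m') r' hpr _) = _
            rw [dtBil_tmul, map_zsmul, map_zsmul]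
            erw [smul_smul]
            rw [Int.units_coe_mul_self, one_smul]
            refine congrArg (ιT D K m' r' n h') ?_
            rw [show vLin P K n (-m') r' hpr (Cochain.single (ModuleCat.ofHom
                ((dualEquiv P (neg_add_cancel m') φ).smulRight k) : P.X (-m') ⟶ K.X r') n) =
              dualTensorHomEquiv A (P.X (-m')) (K.X r') (dualEquiv P (neg_add_cancel m') φ ⊗ₜ k) from
                (congrArg ModuleCat.Hom.hom (Cochain.single_v (ModuleCat.ofHom
                  ((dualEquiv P (neg_add_cancel m') φ).smulRight k) : P.X (-m') ⟶ K.X r') n hpr) : _)]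
            erw [LinearMap.comp_apply]
            rw [LinearEquiv.coe_coe, LinearEquiv.symm_apply_apply]
            exact congrArg (· ⊗ₜ k) ((dualEquiv P hpm).symm_apply_apply φ)
          exact key (- -m) (n + -m) (by omega) (neg_neg m) (by omega) _ _
        · haveI := ModuleCat.subsingleton_of_isZero (hz _ hp)
          have : φ = 0 := (dualEquiv P (neg_add_cancel m)).injective (LinearMap.ext fun x => by
            rw [Subsingleton.elim x 0, map_zero, map_zero])
          subst this
          have h0 : dtBil P K m r n ((0 : Cochain P (oneCx A) m) ⊗ₜ k) = 0 := by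
            rw [TensorProduct.zero_tmul, map_zero]
          refine (congrArg Ψ h0).trans ((map_zero Ψ).trans ?_)
          exact ((congrArg (ιT D K m r n h) (TensorProduct.zero_tmul _ k)).trans (map_zero _)).symm
      exact fun e => ConcreteCategory.congr_hom this e
    exact (ConcreteCategory.isIso_iff_bijective _).2 ⟨Function.LeftInverse.injective hl, Function.RightInverse.surjective hr⟩
  exact HomologicalComplex.Hom.isIso_of_components _

end GrothLib.RH
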