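import Groth.Agent.Lib.DCxRHom.HomCx
import Groth.Agent.Lib.DCxKFlat.TensorSymm
import Mathlib.Algebra.Category.ModuleCat.Monoidal.Basic
import Mathlib.Algebra.Homology.Monoidal

/-! # The adjunction between tensor products and complexes of homomorphisms -/

set_option autoImplicit false
universe u

open CategoryTheory CategoryTheory.Limits MonoidalCategory CochainComplex.HomComplex HomologicalComplex
open scoped TensorProduct
attribute [local instance] HasDerivedCategory.standard

namespace GrothLib.RH

variable {A : Type u} [CommRing A]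

/-- The tensor product complex. -/
noncomputable abbrev tens (K L : DRing.Cx A) : DRing.Cx A := ((GrothLib.KF.tensorCx (R := A)).obj K).obj L

/-- The inclusion of a summand. -/
noncomputable abbrev ιT (K L : DRing.Cx A) (p r s : ℤ) (h : p + r = s) :
    K.X p ⊗ L.X r ⟶ (tens K L).X s :=
  HomologicalComplex.ιMapBifunctor K L (curriedTensor (ModuleCat.{u} A)) (ComplexShape.up ℤ) p r s h

variable (K L M : DRing.Cx A) (n : ℤ)

/-- The component of a cochain as a linear map in the cochain. -/
noncomputable def vLin (m r t : ℤ) (h : r + m = t) : Cochain L M m →ₗ[A] (L.X r →ₗ[A] M.X t) where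
  toFun c := (c.v r t h).hom
  map_add' _ _ := rfl
  map_smul' _ _ := rfl

/-- The bilinear components of a cochain with values in a complex of homomorphisms. -/
noncomputable def bil {n : ℤ} (z : Cochain K (DRing.homCx L M) n) (p q r t : ℤ) (hq : p + n = q) (h : r + q = t) :
    K.X p →ₗ[A] L.X r →ₗ[A] M.X t :=
  (vLin L M q r t h).comp (z.v p q hq).hom

/-- Uncurrying of cochains. -/
noncomputable def uncurryFun (z : Cochain K (DRing.homCx L M) n) : Cochain (tens K L) M n :=
  Cochain.mk fun s t hst => HomologicalComplex.mapBifunctorDesc fun p r h =>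
    ModuleCat.ofHom (TensorProduct.lift (bil K L M z p (p + n) r t rfl
      (by have h' : p + r = s := h; omega)))

lemma uncurryFun_v (z : Cochain K (DRing.homCx L M) n) (s t : ℤ) (hst : s + n = t) (p r : ℤ) (h : p + r = s)
    (q : ℤ) (hq : p + n = q) (x : K.X p) (y : L.X r) :
    (uncurryFun K L M n z).v s t hst (ιT K L p r s h (x ⊗ₜ y)) =
      bil K L M z p q r t hq (by omega) x y := by
  subst hq
  exact ConcreteCategory.congr_hom (HomologicalComplex.ι_mapBifunctorDesc
    (K₁ := K) (K₂ := L) (F := curriedTensor (ModuleCat.{u} A)) (c := ComplexShape.up ℤ)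
    (f := fun p r h => ModuleCat.ofHom (TensorProduct.lift (bil K L M z p (p + n) r t rfl
      (by have h' : p + r = s := h; omega)))) p r h) (x ⊗ₜ y)

lemma cochain_tens_ext {w w' : Cochain (tens K L) M n}
    (h : ∀ (s t : ℤ) (hst : s + n = t) (p r : ℤ) (hpr : p + r = s) (x : K.X p) (y : L.X r),
      w.v s t hst (ιT K L p r s hpr (x ⊗ₜ y)) = w'.v s t hst (ιT K L p r s hpr (x ⊗ₜ y))) : w = w' :=
  Cochain.ext _ _ fun s t hst => HomologicalComplex.mapBifunctor.hom_ext fun p r hpr =>
    ModuleCat.MonoidalCategory.tensor_ext fun x y => h s t hst p r hpr x y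

/-- Currying of cochains. -/
noncomputable def curryFun (w : Cochain (tens K L) M n) : Cochain K (DRing.homCx L M) n :=
  Cochain.mk fun p q hpq => ModuleCat.ofHom
    { toFun := fun x => (Cochain.mk fun r t h => ModuleCat.ofHom
        { toFun := fun y => w.v (p + r) t (by omega) (ιT K L p r (p + r) rfl (x ⊗ₜ y))
          map_add' := fun y y' => by simp only [TensorProduct.tmul_add, map_add]
          map_smul' := fun a y => by simp only [TensorProduct.tmul_smul, map_smul, RingHom.id_apply] } :
        Cochain L M q)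
      map_add' := fun x x' => Cochain.ext _ _ fun r t h => ModuleCat.hom_ext (LinearMap.ext fun y => by
        exact (congrArg (fun e => w.v (p + r) t _ (ιT K L p r _ rfl e)) (TensorProduct.add_tmul x x' y)).trans
          ((congrArg (w.v (p + r) t _) (map_add _ _ _)).trans (map_add _ _ _)))
      map_smul' := fun a x => Cochain.ext _ _ fun r t h => ModuleCat.hom_ext (LinearMap.ext fun y => by
        exact (congrArg (w.v (p + r) t _) (map_smul (ιT K L p r _ rfl).hom a (x ⊗ₜ y))).trans
          (map_smul _ _ _)) }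

lemma curryFun_v (w : Cochain (tens K L) M n) (p q : ℤ) (hpq : p + n = q) (x : K.X p) (r t : ℤ) (h : r + q = t)
    (s : ℤ) (hs : p + r = s) (y : L.X r) :
    bil K L M (curryFun K L M n w) p q r t hpq h x y =
      w.v s t (by omega) (ιT K L p r s hs (x ⊗ₜ y)) := by
  subst hs
  rfl

/-- The currying equivalence in degree `n`. -/
noncomputable def assocEquiv : Cochain K (DRing.homCx L M) n ≃ₗ[A] Cochain (tens K L) M n where
  toFun := uncurryFun K L M n
  map_add' z z' := cochain_tens_ext K L M n fun s t hst p r h x y => by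
    exact (uncurryFun_v K L M n (z + z') s t hst p r h _ rfl x y).trans
      (congrArg₂ (· + ·) (uncurryFun_v K L M n z s t hst p r h _ rfl x y).symm
        (uncurryFun_v K L M n z' s t hst p r h _ rfl x y).symm)
  map_smul' a z := cochain_tens_ext K L M n fun s t hst p r h x y => by
    exact (uncurryFun_v K L M n (a • z) s t hst p r h _ rfl x y).trans
      (congrArg (a • ·) (uncurryFun_v K L M n z s t hst p r h _ rfl x y).symm)
  invFun := curryFun K L M n
  left_inv z := Cochain.ext _ _ fun p q hpq => ModuleCat.hom_ext (LinearMap.ext fun x =>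
    Cochain.ext _ _ fun r t h => ModuleCat.hom_ext (LinearMap.ext fun y =>
      uncurryFun_v K L M n z (p + r) t (by omega) p r rfl q hpq x y))
  right_inv w := cochain_tens_ext K L M n fun s t hst p r h x y => by
    rw [uncurryFun_v K L M n _ s t hst p r h _ rfl]
    exact curryFun_v K L M n w p (p + n) rfl x r t (by omega) s h y

lemma δ_app {F G : DRing.Cx A} {n : ℤ} (w : Cochain F G n) (s t t₀ s₁ : ℤ) (hst : s + (n + 1) = t)
    (ht : t₀ = t - 1) (hs : s + 1 = s₁) (e : F.X s) :
    (δ n (n + 1) w).v s t hst e =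
      G.d t₀ t (w.v s t₀ (by omega) e) + ((n + 1).negOnePow : ℤ) • w.v s₁ t (by omega) (F.d s s₁ e) := by
  rw [δ_v n (n + 1) rfl w s t hst t₀ s₁ ht hs]
  rfl

lemma d_ιT (p r s : ℤ) (h : p + r = s) (x : K.X p) (y : L.X r) :
    (tens K L).d s (s + 1) (ιT K L p r s h (x ⊗ₜ y)) =
      ιT K L (p + 1) r (s + 1) (by omega) (K.d p (p + 1) x ⊗ₜ y) +
        (p.negOnePow : ℤ) • ιT K L p (r + 1) (s + 1) (by omega) (x ⊗ₜ L.d r (r + 1) y) := by
  have h1 : ιT K L p r s h ≫ (tens K L).d s (s + 1) =
        (K.d p (p + 1)) ▷ L.X r ≫ ιT K L (p + 1) r (s + 1) (by omega) +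
          p.negOnePow • (K.X p ◁ L.d r (r + 1) ≫ ιT K L p (r + 1) (s + 1) (by omega)) := by
    change _ ≫ (HomologicalComplex.mapBifunctor K L _ _).d s (s + 1) = _
    rw [HomologicalComplex.mapBifunctor.d_eq, Preadditive.comp_add, HomologicalComplex.mapBifunctor.ι_D₁,
      HomologicalComplex.mapBifunctor.ι_D₂,
      HomologicalComplex.mapBifunctor.d₁_eq _ _ _ _ (show (ComplexShape.up ℤ).Rel p (p + 1) from rfl) r (s + 1)
        (show (p + 1) + r = s + 1 by omega),
      HomologicalComplex.mapBifunctor.d₂_eq _ _ _ _ p (show (ComplexShape.up ℤ).Rel r (r + 1) from rfl) (s + 1)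
        (show p + (r + 1) = s + 1 by omega)]
    rw [show ComplexShape.ε₁ (ComplexShape.up ℤ) (ComplexShape.up ℤ) (ComplexShape.up ℤ) (p, r) = 1 from rfl,
      one_smul]
    rfl
  exact ConcreteCategory.congr_hom h1 (x ⊗ₜ y)

/-- Currying commutes with the differentials. -/
theorem assocEquiv_δ (n : ℤ) (z : Cochain K (DRing.homCx L M) n) :
    δ n (n + 1) (uncurryFun K L M n z) = uncurryFun K L M (n + 1) (δ n (n + 1) z) := by
  refine cochain_tens_ext K L M (n + 1) fun s t hst p r h x y => ?_
  rw [uncurryFun_v K L M (n + 1) _ s t hst p r h _ rfl,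
    δ_app _ s t (t - 1) (s + 1) hst rfl rfl, d_ιT]
  simp only [map_add, map_zsmul]
  rw [uncurryFun_v K L M n z s (t - 1) _ p r h (p + n) rfl,
    uncurryFun_v K L M n z (s + 1) t _ (p + 1) r _ (p + (n + 1)) (by omega),
    uncurryFun_v K L M n z (s + 1) t _ p (r + 1) _ (p + n) rfl]
  have hz := δ_app (F := K) (G := DRing.homCx L M) z p (p + (n + 1)) (p + n) (p + 1) rfl (by omega) rfl x
  have hb : bil K L M (δ n (n + 1) z) p (p + (n + 1)) r t rfl (by omega) x y =
      ((δ (p + n) (p + (n + 1)) (z.v p (p + n) rfl x) : Cochain L M (p + (n + 1))).v r t (by omega)) y +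
        ((n + 1).negOnePow : ℤ) • bil K L M z (p + 1) (p + (n + 1)) r t (by omega) (by omega)
          (K.d p (p + 1) x) y := by
    change vLin L M (p + (n + 1)) r t _ ((δ n (n + 1) z).v p (p + (n + 1)) rfl x) y = _
    rw [hz]
    erw [map_add, LinearMap.add_apply, map_zsmul, LinearMap.smul_apply]
    rfl
  rw [hb, δ_v (p + n) (p + (n + 1)) (by omega) _ r t _ (t - 1) (r + 1) rfl rfl, smul_add, ← smul_assoc, smul_eq_mul]
  change _ = (M.d (t - 1) t _ + ((p + (n + 1)).negOnePow : ℤ) • _) + _
  rw [← Units.val_mul, ← Int.negOnePow_add, add_comm (n + 1) p]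
  exact (congrArg (_ + ·) (add_comm _ _)).trans (add_assoc (G := M.X t) _ _ _).symm

/-- Currying commutes with the differentials. -/
theorem assocEquiv_δ' (a b : ℤ) (h : a + 1 = b) (z : Cochain K (DRing.homCx L M) a) :
    δ a b (assocEquiv K L M a z) = assocEquiv K L M b (δ a b z) := by
  subst h
  exact assocEquiv_δ K L M a z

/-- Tensor–hom adjunction for complexes. -/
noncomputable def assocIso : DRing.homCx K (DRing.homCx L M) ≅ DRing.homCx (tens K L) M :=
  HomologicalComplex.Hom.isoOfComponents (fun n => (assocEquiv K L M n).toModuleIso) fun n m hnm =>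
    ModuleCat.hom_ext (LinearMap.ext fun (z : Cochain K (DRing.homCx L M) n) => assocEquiv_δ' K L M n m hnm z)

end GrothLib.RH
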