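import Groth.Agent.Lib.DCxRHom.HomAssoc
import Groth.Agent.Lib.KInj.Resolution

/-! # Properties of complexes of homomorphisms and of the derived functor -/

set_option autoImplicit false
universe u

open CategoryTheory CategoryTheory.Limits MonoidalCategory CochainComplex.HomComplex HomologicalComplex
attribute [local instance] HasDerivedCategory.standard

namespace GrothLib.RH

variable {A : Type u} [CommRing A]

lemma quasiIso_Q {X Y : DRing.Cx A} (f : X ⟶ Y) [QuasiIso f] : IsIso (DerivedCategory.Q.map f) :=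
  Localization.inverts DerivedCategory.Q (HomologicalComplex.quasiIso (ModuleCat.{u} A) (ComplexShape.up ℤ)) f
    (by rw [HomologicalComplex.mem_quasiIso_iff]; infer_instance)

/-- K-injective resolutions of complexes of modules. -/
theorem exists_resolution (L : DRing.Cx A) : ∃ (I : DRing.Cx A) (i : L ⟶ I), QuasiIso i ∧ I.IsKInjective := by
  obtain ⟨I, i, hi, hI, -⟩ := GrothLib.KInj.exists_kInjective_resolution (ModuleCat.{u} A) L
  exact ⟨I, i, hi, hI⟩

/-- Every object of the derived category is the class of a K-injective complex. -/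
theorem exists_kInjective_rep (X : Dual.D A) : ∃ I : DRing.Cx A, I.IsKInjective ∧ Nonempty (X ≅ DRing.toD I) := by
  haveI : (DerivedCategory.Q (C := ModuleCat.{u} A)).EssSurj :=
    Localization.essSurj _ (HomologicalComplex.quasiIso (ModuleCat.{u} A) (ComplexShape.up ℤ))
  obtain ⟨I, i, hi, hI⟩ := exists_resolution (DerivedCategory.Q.objPreimage X)
  haveI := quasiIso_Q i
  exact ⟨I, hI, ⟨(DerivedCategory.Q.objObjPreimageIso X).symm ≪≫ asIso (DerivedCategory.Q.map i)⟩⟩

/-- The value of the derived functor out of a K-projective complex. -/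
theorem rHom_value_of_isKProjective (K : DRing.Cx A) [K.IsKProjective] [DRing.HasRHomCx K] (L : DRing.Cx A) :
    Nonempty ((DRing.RHomCx K).obj (DRing.toD L) ≅ DRing.toD (DRing.homCx K L)) := by
  obtain ⟨I, i, hi, hI⟩ := exists_resolution L
  haveI := quasiIso_Q i
  haveI := quasiIso_homCxMap_of_isKProjective K i
  haveI := quasiIso_Q (DRing.homCxMap K i)
  exact ⟨(DRing.RHomCx K).mapIso (asIso (DerivedCategory.Q.map i)) ≪≫ (rHom_value K I).some ≪≫
    (asIso (DerivedCategory.Q.map (DRing.homCxMap K i))).symm⟩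

/-- Precomposition of cochains. -/
noncomputable def homCxPre {K K' : DRing.Cx A} (f : K' ⟶ K) (L : DRing.Cx A) :
    DRing.homCx K L ⟶ DRing.homCx K' L where
  f i := ModuleCat.ofHom
    { toFun := fun z : Cochain K L i => (Cochain.ofHom f).comp z (zero_add i)
      map_add' := fun z z' => Cochain.comp_add _ _ _ _
      map_smul' := fun a z => Cochain.comp_smul _ a _ _ }
  comm' i j _ := by
    refine ModuleCat.hom_ext (LinearMap.ext fun (z : Cochain K L i) => ?_)
    exact δ_ofHom_comp f z j

/-- Complexes of homomorphisms out of isomorphic complexes are isomorphic. -/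
noncomputable def homCxPreIso {K K' : DRing.Cx A} (e : K' ≅ K) (L : DRing.Cx A) :
    DRing.homCx K L ≅ DRing.homCx K' L where
  hom := homCxPre e.hom L
  inv := homCxPre e.inv L
  hom_inv_id := HomologicalComplex.hom_ext _ _ fun i => ModuleCat.hom_ext (LinearMap.ext fun (z : Cochain K L i) => by
    change (Cochain.ofHom e.inv).comp ((Cochain.ofHom e.hom).comp z (zero_add i)) (zero_add i) = z
    rw [← Cochain.comp_assoc_of_first_is_zero_cochain, ← Cochain.ofHom_comp, e.inv_hom_id, Cochain.id_comp])
  inv_hom_id := HomologicalComplex.hom_ext _ _ fun i => ModuleCat.hom_ext (LinearMap.ext fun (z : Cochain K' L i) => by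
    change (Cochain.ofHom e.hom).comp ((Cochain.ofHom e.inv).comp z (zero_add i)) (zero_add i) = z
    rw [← Cochain.comp_assoc_of_first_is_zero_cochain, ← Cochain.ofHom_comp, e.hom_inv_id, Cochain.id_comp])

/-- Hom from a K-flat complex into a K-injective complex is K-injective. -/
theorem isKInjective_homCx (L I : DRing.Cx A) [I.IsKInjective] (hL : GrothLib.KF.IsKFlat L) :
    (DRing.homCx L I).IsKInjective := by
  refine ⟨fun {N} f hN => ?_⟩
  have hT : (tens N L).Acyclic := fun i => by
    rw [exactAt_iff_isZero_homology]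
    exact hL N (fun j => (exactAt_iff_isZero_homology N j).1 (hN j)) i
  let w := assocEquiv N L I 0 (Cochain.ofHom f)
  have hnat := assocEquiv_δ' N L I
  have hw : δ 0 1 w = 0 := by rw [hnat 0 1 rfl, δ_ofHom, map_zero]
  obtain ⟨b, hb⟩ : ∃ b : Cochain (tens N L) I (-1), w = δ (-1) 0 b := by
    obtain ⟨h⟩ := CochainComplex.IsKInjective.nonempty_homotopy_zero (Cocycle.homOf (Cocycle.mk w 1 rfl hw)) hT
    have := (Cochain.equivHomotopy _ _ h).2
    exact ⟨_, (Cocycle.cochain_ofHom_homOf_eq_coe _).symm.trans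
      (this.trans ((congrArg (_ + ·) (Cochain.ofHom_zero _ _)).trans (add_zero _)))⟩
  obtain ⟨b', rfl⟩ := (assocEquiv N L I (-1)).surjective b
  rw [hnat (-1) 0 rfl] at hb
  exact ⟨(Cochain.equivHomotopy f 0).symm ⟨b', by
    rw [Cochain.ofHom_zero, add_zero]
    exact (assocEquiv N L I 0).injective hb⟩⟩

/-- The tensor product of two modules placed in degree zero. -/
noncomputable def tensSingleIso (M N : ModuleCat.{u} A) :
    tens ((HomologicalComplex.single (ModuleCat.{u} A) (ComplexShape.up ℤ) 0).obj M)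
      ((HomologicalComplex.single (ModuleCat.{u} A) (ComplexShape.up ℤ) 0).obj N) ≅
      (HomologicalComplex.single (ModuleCat.{u} A) (ComplexShape.up ℤ) 0).obj (M ⊗ N) :=
  (GrothLib.KF.singleIso ((HomologicalComplex.single (ModuleCat.{u} A) (ComplexShape.up ℤ) 0).obj M) N).symm ≪≫
    (HomologicalComplex.singleMapHomologicalComplex ((curriedTensor (ModuleCat.{u} A)).flip.obj N)
      (ComplexShape.up ℤ) 0).app M

/-- Iterated derived Hom out of a K-flat complex. -/
theorem rHom_rHom_iso (K L P : DRing.Cx A) (hL : GrothLib.KF.IsKFlat L) (e : P ≅ tens K L)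
    [DRing.HasRHomCx K] [DRing.HasRHomCx L] [DRing.HasRHomCx P] (X : Dual.D A) :
    Nonempty ((DRing.RHomCx K).obj ((DRing.RHomCx L).obj X) ≅ (DRing.RHomCx P).obj X) := by
  obtain ⟨I, hI, ⟨eI⟩⟩ := exists_kInjective_rep X
  haveI := isKInjective_homCx L I hL
  exact ⟨(DRing.RHomCx K).mapIso ((DRing.RHomCx L).mapIso eI ≪≫ (rHom_value L I).some) ≪≫
    (rHom_value K (DRing.homCx L I)).some ≪≫
    DerivedCategory.Q.mapIso (assocIso K L I ≪≫ homCxPreIso e I) ≪≫
    (rHom_value P I).some.symm ≪≫ (DRing.RHomCx P).mapIso eI.symm⟩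

end GrothLib.RH
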